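import Mathlib
import Cfsg.Prelude.Def_PLocal
import Cfsg.Prelude.Def_Solvable
import Cfsg.Prelude.Def_Transfer

set_option autoImplicit false

/-!
# Baumann lemmas in the rank-one pushing-up situation (S2768, S2769, S2770): shared definitions (helper48)

`Ctx p q S M Q` is the abstract rank-one setting extracted from "Hypothesis E"
(`C_G(O_p(G)) ≤ O_p(G)`, `S` in a unique maximal subgroup `M`, `G/K ≅ PSL₂(q)`), with `Q = O_p(G)`:
`S/Q` is elementary abelian of order `q`, any `a ∈ S \ Q` together with a conjugate `xSx⁻¹` (`x ∉ M`)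
generates `G`, and `N_G(S)` acts irreducibly on `S/Q`.

`absMax P` is the set of abelian subgroups of `P` (as subgroups of the ambient group) of largest order.
-/

namespace Cfsg.Agent.Lib.Helper48.Bau

open scoped Pointwise

/-- the abstract rank-one pushing-up setting -/
structure Ctx {G : Type*} [Group G] (p q : ℕ) (S : Sylow p G) (M Q : Subgroup G) : Prop where
  one_lt : 1 < q
  coatom : IsCoatom M
  le : (S : Subgroup G) ≤ M
  uniq : ∀ M' : Subgroup G, IsCoatom M' → (S : Subgroup G) ≤ M' → M' = M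
  Q_normal : Q.Normal
  Q_le : Q ≤ (S : Subgroup G)
  cent : Subgroup.centralizer (Q : Set G) ≤ Q
  core : ∀ N : Subgroup G, N.Normal → IsPGroup p N → N ≤ Q
  card : Nat.card (S : Subgroup G) = q * Nat.card Q
  comm : ⁅(S : Subgroup G), (S : Subgroup G)⁆ ≤ Q
  pow : ∀ s ∈ (S : Subgroup G), s ^ p ∈ Q
  gen : ∀ x : G, x ∉ M → ∀ a ∈ (S : Subgroup G), a ∉ Q →
    Subgroup.closure (insert a ((MulAut.conj x • (S : Subgroup G) : Subgroup G) : Set G)) = ⊤
  irr : ∀ H : Subgroup G, Q ≤ H → H ≤ (S : Subgroup G) →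
    (∀ g ∈ Subgroup.normalizer ((S : Subgroup G) : Set G), MulAut.conj g • H = H) →
    H = Q ∨ H = (S : Subgroup G)

/-- abelian subgroups of `P` of largest order, as subgroups of the ambient group -/
def absMax {G : Type*} [Group G] (P : Subgroup G) : Set (Subgroup G) :=
  {A | A ≤ P ∧ IsMulCommutative A ∧
    ∀ B : Subgroup G, B ≤ P → IsMulCommutative B → Nat.card B ≤ Nat.card A}

end Cfsg.Agent.Lib.Helper48.Bau
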