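import Mathlib
import Cfsg.Agent.Lib.Helper48.Bau.Defs
import Cfsg.Agent.Lib.Helper47.SylowLemmas

set_option autoImplicit false

/-!
# Basic consequences of the rank-one setting `Ctx` (helper48)
-/

namespace Cfsg.Agent.Lib.Helper48.Bau

open scoped Pointwise

variable {G : Type*} [Group G] {p q : ℕ} {S : Sylow p G} {M Q : Subgroup G}

theorem Ctx.exists_not_mem (h : Ctx p q S M Q) : ∃ x : G, x ∉ M := by
  by_contra hcon
  exact h.coatom.1 (eq_top_iff.mpr fun x _ => by_contra fun hx => hcon ⟨x, hx⟩)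

theorem Ctx.exists_mem_not_mem [Finite G] (h : Ctx p q S M Q) :
    ∃ a ∈ (S : Subgroup G), a ∉ Q := by
  by_contra hcon
  have hSQ : (S : Subgroup G) = Q :=
    le_antisymm (fun a ha => by_contra fun haQ => hcon ⟨a, ha, haQ⟩) h.Q_le
  have hc := h.card
  rw [hSQ] at hc
  have hpos : 0 < Nat.card Q := Nat.card_pos
  have h1 := h.one_lt
  nlinarith

theorem Ctx.centralizer_inf_le_center [Finite G] (h : Ctx p q S M Q) {x : G} (hx : x ∉ M) :
    Subgroup.centralizer ((S : Subgroup G) : Set G) ⊓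
      Subgroup.centralizer ((MulAut.conj x • (S : Subgroup G) : Subgroup G) : Set G) ≤
        Subgroup.center G := by
  obtain ⟨a, haS, haQ⟩ := h.exists_mem_not_mem
  intro g hg
  have hgen := h.gen x hx a haS haQ
  have h1 : g ∈ Subgroup.centralizer
      ((Subgroup.closure (insert a ((MulAut.conj x • (S : Subgroup G) : Subgroup G) : Set G)) :
        Subgroup G) : Set G) := by
    rw [Subgroup.centralizer_closure, Subgroup.mem_centralizer_iff]
    intro y hy
    rcases hy with rfl | hy
    · exact (Subgroup.mem_centralizer_iff.mp hg.1) _ haS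
    · exact (Subgroup.mem_centralizer_iff.mp hg.2) _ hy
  rw [hgen, Subgroup.coe_top, Subgroup.centralizer_univ] at h1
  exact h1

theorem Ctx.sup_conj_eq_top [Finite G] (h : Ctx p q S M Q) {x : G} (hx : x ∉ M) :
    (S : Subgroup G) ⊔ MulAut.conj x • (S : Subgroup G) = ⊤ := by
  obtain ⟨a, haS, haQ⟩ := h.exists_mem_not_mem
  rw [eq_top_iff, ← h.gen x hx a haS haQ, Subgroup.closure_le]
  intro y hy
  rcases hy with rfl | hy
  · exact Subgroup.mem_sup_left haS
  · exact Subgroup.mem_sup_right hy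

/-- a proper subgroup containing `S` lies in `M` -/
theorem Ctx.le_of_le_of_ne_top [Finite G] (h : Ctx p q S M Q) {H : Subgroup G}
    (hSH : (S : Subgroup G) ≤ H) (hH : H ≠ ⊤) : H ≤ M := by
  obtain ⟨M', hM', hHM'⟩ := (eq_top_or_exists_le_coatom H).resolve_left hH
  have := h.uniq M' hM' (hSH.trans hHM')
  rw [← this]
  exact hHM'

theorem Ctx.sup_eq_top_of_not_le [Finite G] (h : Ctx p q S M Q) {N : Subgroup G}
    (hN : ¬ N ≤ M) : N ⊔ (S : Subgroup G) = ⊤ := by
  by_contra hne
  exact hN (le_sup_left.trans (h.le_of_le_of_ne_top le_sup_right hne))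

theorem Ctx.normalClosure_eq_top [Finite G] (h : Ctx p q S M Q) :
    Subgroup.normalClosure (((S : Subgroup G)) : Set G) = ⊤ := by
  obtain ⟨x, hx⟩ := h.exists_not_mem
  rw [eq_top_iff, ← h.sup_conj_eq_top hx]
  apply sup_le Subgroup.le_normalClosure
  intro y hy
  rw [Subgroup.mem_pointwise_smul_iff_inv_smul_mem] at hy
  have h1 := (Subgroup.normalClosure_normal).conj_mem _ (Subgroup.le_normalClosure hy) x
  rw [MulAut.smul_def, MulAut.conj_inv_apply] at h1
  convert h1 using 1
  group

/-- Frattini: a normal subgroup inside `M` meets `S` inside `Q` -/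
theorem Ctx.inf_le_of_normal_of_le [Finite G] [Fact p.Prime] (h : Ctx p q S M Q) {N : Subgroup G}
    [hN : N.Normal] (hNM : N ≤ M) : (S : Subgroup G) ⊓ N ≤ Q := by
  -- T = S ⊓ N is a Sylow subgroup of N
  set T : Subgroup G := (S : Subgroup G) ⊓ N with hT
  have hTp : IsPGroup p T := S.isPGroup'.to_le inf_le_left
  -- normalizer of T together with N is everything
  have hfrat : Subgroup.normalizer (T : Set G) ⊔ N = ⊤ := by
    obtain ⟨P, hP⟩ := Cfsg.Agent.Lib.Helper47.exists_sylow_eq_subgroupOf_of_normal S N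
    have hfr := Sylow.normalizer_sup_eq_top P
    have hPmap : (P : Subgroup ↥N).map N.subtype = (S : Subgroup G) ⊓ N := by
      rw [hP, Subgroup.subgroupOf_map_subtype]
    rwa [hPmap] at hfr
  have hSn : (S : Subgroup G) ≤ Subgroup.normalizer (T : Set G) := by
    intro s hs
    rw [Subgroup.mem_normalizer_iff]
    intro t
    constructor
    · intro ht
      exact ⟨S.1.mul_mem (S.1.mul_mem hs ht.1) (S.1.inv_mem hs), hN.conj_mem t ht.2 s⟩
    · intro ht
      have h1 : t = s⁻¹ * (s * t * s⁻¹) * s⁻¹⁻¹ := by group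
      rw [h1]
      exact ⟨S.1.mul_mem (S.1.mul_mem (S.1.inv_mem hs) ht.1) (S.1.inv_mem (S.1.inv_mem hs)),
        hN.conj_mem _ ht.2 s⁻¹⟩
  have hnorm : Subgroup.normalizer (T : Set G) = ⊤ := by
    by_contra hne
    have h1 := h.le_of_le_of_ne_top hSn hne
    have h2 : (⊤ : Subgroup G) ≤ M := by
      rw [← hfrat]
      exact sup_le h1 hNM
    exact h.coatom.1 (eq_top_iff.mpr h2)
  have hTn : T.Normal := Subgroup.normalizer_eq_top_iff.mp hnorm
  exact h.core T hTn hTp

end Cfsg.Agent.Lib.Helper48.Bau
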