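import Mathlib
import Cfsg.Agent.Lib.Helper48.Bau.Defs
import Cfsg.Agent.Lib.Helper43.BauPSL2
import Cfsg.Agent.Lib.Helper6.BauCoc
import Cfsg.Agent.Lib.Helper6.BauLift
import Cfsg.Agent.Lib.Helper1.BauJ
import Cfsg.Agent.Lib.Helper66.BauT1
import Cfsg.Agent.Lib.Helper66.BauT2
import Cfsg.Agent.Lib.Helper76.BauT3

set_option autoImplicit false

/-! Interface file: the leaf modules of the Baumann project (S2768-S2770), proved by helper43 ([BAU-PSL2]),
helper6 ([BAU-LIFT], [BAU-COC]), helper1 ([BAU-J]), helper66 ([BAU-T1], [BAU-T2]), helper76 ([BAU-T3]),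
restated in the namespace of the project. -/

namespace Cfsg.Agent.Lib.Helper48.Bau

open scoped Pointwise


/-! ## [BAU-PSL2] -/
theorem psl2_sylow_facts {X : Type*} [Group X] (F : Type) [Field F] [Fintype F] {p n : ℕ}
    [Fact p.Prime] (hn : 1 ≤ n) (hF : Fintype.card F = p ^ n)
    (e : X ≃* Matrix.ProjectiveSpecialLinearGroup (Fin 2) F) (P : Sylow p X) :
    Nat.card (P : Subgroup X) = p ^ n ∧
    (∀ a ∈ (P : Subgroup X), ∀ b ∈ (P : Subgroup X), a * b = b * a) ∧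
    (∀ a ∈ (P : Subgroup X), a ^ p = 1) ∧
    (∀ P' : Sylow p X, P' ≠ P → ∀ a ∈ (P : Subgroup X), a ≠ 1 →
      Subgroup.closure (insert a ((P' : Subgroup X) : Set X)) = ⊤) ∧
    (∀ H : Subgroup X, H ≤ (P : Subgroup X) →
      (∀ g ∈ Subgroup.normalizer ((P : Subgroup X) : Set X), ∀ h ∈ H, g * h * g⁻¹ ∈ H) →
      H = ⊥ ∨ H = (P : Subgroup X)) ∧
    (∃ P' : Sylow p X, P' ≠ P) :=
  Cfsg.Agent.Lib.Helper43.psl2_sylow_facts F hn hF e P

/-! ## [BAU-LIFT] -/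
theorem ctx_of_quotient {G : Type*} [Group G] [Finite G] {p : ℕ} [Fact p.Prime] (S : Sylow p G)
    (hE₁ : Subgroup.centralizer (Cfsg.pCore p G : Set G) ≤ Cfsg.pCore p G)
    (hE₂ : ∃! M : Subgroup G, IsCoatom M ∧ (S : Subgroup G) ≤ M)
    (K : Subgroup G) [K.Normal] (q : ℕ) (hq : 1 < q)
    (hfacts : ∀ P : Sylow p (G ⧸ K),
      Nat.card (P : Subgroup (G ⧸ K)) = q ∧
      (∀ a ∈ (P : Subgroup (G ⧸ K)), ∀ b ∈ (P : Subgroup (G ⧸ K)), a * b = b * a) ∧
      (∀ a ∈ (P : Subgroup (G ⧸ K)), a ^ p = 1) ∧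
      (∀ P' : Sylow p (G ⧸ K), P' ≠ P → ∀ a ∈ (P : Subgroup (G ⧸ K)), a ≠ 1 →
        Subgroup.closure (insert a ((P' : Subgroup (G ⧸ K)) : Set (G ⧸ K))) = ⊤) ∧
      (∀ H : Subgroup (G ⧸ K), H ≤ (P : Subgroup (G ⧸ K)) →
        (∀ g ∈ Subgroup.normalizer ((P : Subgroup (G ⧸ K)) : Set (G ⧸ K)), ∀ h ∈ H,
          g * h * g⁻¹ ∈ H) →
        H = ⊥ ∨ H = (P : Subgroup (G ⧸ K))) ∧
      (∃ P' : Sylow p (G ⧸ K), P' ≠ P)) :
    ∃ M : Subgroup G, Ctx p q S M (Cfsg.pCore p G) :=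
  Cfsg.Agent.Lib.Helper6.Bau.ctx_of_quotient S hE₁ hE₂ K q hq hfacts

/-! ## [BAU-COC] -/
theorem central_of_omega_central {G : Type*} [Group G] [Finite G] {p : ℕ} [Fact p.Prime]
    (S : Sylow p G) (V : Subgroup G) [V.Normal] (hVc : IsMulCommutative V) (hVp : IsPGroup p V)
    (h : ∀ z ∈ V, z ^ p = 1 → (∀ s ∈ (S : Subgroup G), s * z = z * s) → z ∈ Subgroup.center G) :
    ∀ z ∈ V, (∀ s ∈ (S : Subgroup G), s * z = z * s) → z ∈ Subgroup.center G :=
  Cfsg.Agent.Lib.Helper6.Bau.central_of_omega_central S V hVc hVp h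


variable {G : Type*} [Group G]


/-! ## [BAU-J] Thompson subgroup bookkeeping -/

theorem thompsonSubgroupAOf_eq_sSup (P : Subgroup G) :
    Cfsg.thompsonSubgroupAOf P = sSup (absMax P) :=
  Cfsg.Agent.Lib.Helper1.Bau.thompsonSubgroupAOf_eq_sSup P

theorem absMax_nonempty [Finite G] (P : Subgroup G) : (absMax P).Nonempty :=
  Cfsg.Agent.Lib.Helper1.Bau.absMax_nonempty P

theorem mem_of_mem_absMax_of_commute [Finite G] {P A : Subgroup G} (hA : A ∈ absMax P) {x : G}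
    (hx : x ∈ P) (hc : ∀ a ∈ A, x * a = a * x) : x ∈ A :=
  Cfsg.Agent.Lib.Helper1.Bau.mem_of_mem_absMax_of_commute hA hx hc

theorem thompsonSubgroupAOf_le (P : Subgroup G) : Cfsg.thompsonSubgroupAOf P ≤ P :=
  Cfsg.Agent.Lib.Helper1.Bau.thompsonSubgroupAOf_le P

theorem centerThompsonAOf_le_of_mem_absMax [Finite G] {P A : Subgroup G} (hA : A ∈ absMax P) :
    Cfsg.centerThompsonAOf P ≤ A :=
  Cfsg.Agent.Lib.Helper1.Bau.centerThompsonAOf_le_of_mem_absMax hA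

theorem center_le_centerThompsonAOf [Finite G] (P : Subgroup G) :
    P ⊓ Subgroup.centralizer (P : Set G) ≤ Cfsg.centerThompsonAOf P :=
  Cfsg.Agent.Lib.Helper1.Bau.center_le_centerThompsonAOf P

theorem conj_smul_absMax (g : G) (P A : Subgroup G) :
    MulAut.conj g • A ∈ absMax (MulAut.conj g • P) ↔ A ∈ absMax P :=
  Cfsg.Agent.Lib.Helper1.Bau.conj_smul_absMax g P A

theorem conj_smul_thompsonSubgroupAOf (g : G) (P : Subgroup G) :
    MulAut.conj g • Cfsg.thompsonSubgroupAOf P = Cfsg.thompsonSubgroupAOf (MulAut.conj g • P) :=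
  Cfsg.Agent.Lib.Helper1.Bau.conj_smul_thompsonSubgroupAOf g P

theorem conj_smul_centerThompsonAOf (g : G) (P : Subgroup G) :
    MulAut.conj g • Cfsg.centerThompsonAOf P = Cfsg.centerThompsonAOf (MulAut.conj g • P) :=
  Cfsg.Agent.Lib.Helper1.Bau.conj_smul_centerThompsonAOf g P

theorem absMax_eq_of_forall_le [Finite G] {P Q : Subgroup G} (hQP : Q ≤ P)
    (h : ∀ A ∈ absMax P, A ≤ Q) : absMax Q = absMax P :=
  Cfsg.Agent.Lib.Helper1.Bau.absMax_eq_of_forall_le hQP h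

theorem absMax_subset_of_mem [Finite G] {P Q A : Subgroup G} (hQP : Q ≤ P) (hA : A ∈ absMax P)
    (hAQ : A ≤ Q) : absMax Q ⊆ absMax P :=
  Cfsg.Agent.Lib.Helper1.Bau.absMax_subset_of_mem hQP hA hAQ

/-! ## [BAU-T1] the Sylow subgroup is a best offender -/
theorem sylow_best [Finite G] {p q : ℕ} [Fact p.Prime] {S : Sylow p G} {M Q : Subgroup G}
    (h : Ctx p q S M Q) (V : Subgroup G) [V.Normal]
    (hQV : Q ≤ Subgroup.centralizer (V : Set G))
    (A : Subgroup G) (hAS : A ≤ (S : Subgroup G)) (hAQ : ¬ A ≤ Q)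
    (hoff : Nat.card V * Nat.card (A ⊓ Q : Subgroup G) ≤
      Nat.card A * Nat.card (V ⊓ Subgroup.centralizer (A : Set G) : Subgroup G)) :
    ∀ B : Subgroup G, B ≤ (S : Subgroup G) →
      Nat.card B * Nat.card (V ⊓ Subgroup.centralizer (B : Set G) : Subgroup G) ≤
        Nat.card (S : Subgroup G) *
          Nat.card (V ⊓ Subgroup.centralizer ((S : Subgroup G) : Set G) : Subgroup G) :=
  Cfsg.Agent.Lib.Helper66.Bau.sylow_best h V hQV A hAS hAQ hoff

/-! ## [BAU-T2] the Sylow subgroup acts quadratically -/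
theorem sylow_quadratic [Finite G] {p q : ℕ} [Fact p.Prime] {S : Sylow p G} {M Q : Subgroup G}
    (h : Ctx p q S M Q) (V : Subgroup G) [V.Normal] (hV : Cfsg.IsElementaryAbelian p V)
    (hQV : Q ≤ Subgroup.centralizer (V : Set G))
    (hbest : ∀ B : Subgroup G, B ≤ (S : Subgroup G) →
      Nat.card B * Nat.card (V ⊓ Subgroup.centralizer (B : Set G) : Subgroup G) ≤
        Nat.card (S : Subgroup G) *
          Nat.card (V ⊓ Subgroup.centralizer ((S : Subgroup G) : Set G) : Subgroup G)) :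
    ⁅V, (S : Subgroup G)⁆ ≤ Subgroup.centralizer ((S : Subgroup G) : Set G) :=
  Cfsg.Agent.Lib.Helper66.Bau.sylow_quadratic h V hV hQV hbest

/-! ## [BAU-T3] lower bound for the fixed points -/
theorem card_fixed_ge [Finite G] {p q : ℕ} [Fact p.Prime] {S : Sylow p G} {M Q : Subgroup G}
    (h : Ctx p q S M Q) (V : Subgroup G) [V.Normal] (hV : Cfsg.IsElementaryAbelian p V)
    (hQV : Q ≤ Subgroup.centralizer (V : Set G))
    (hquad : ⁅V, (S : Subgroup G)⁆ ≤ Subgroup.centralizer ((S : Subgroup G) : Set G))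
    (hU : ¬ (V ⊓ Subgroup.centralizer ((S : Subgroup G) : Set G) ≤ Subgroup.center G)) :
    q * Nat.card (V ⊓ Subgroup.center G : Subgroup G) ≤
      Nat.card (V ⊓ Subgroup.centralizer ((S : Subgroup G) : Set G) : Subgroup G) :=
  Cfsg.Agent.Lib.Helper76.BauT3.card_fixed_ge h V hV hQV hquad hU

end Cfsg.Agent.Lib.Helper48.Bau
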