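import Mathlib

set_option autoImplicit false

/-!
# Small utilities on conjugate subgroups (helper48, Baumann project)
-/

namespace Cfsg.Agent.Lib.Helper48.Bau

open scoped Pointwise

variable {G : Type*} [Group G]

theorem mem_conj_smul_iff {g y : G} {H : Subgroup G} :
    y ∈ MulAut.conj g • H ↔ g⁻¹ * y * g ∈ H := by
  rw [Subgroup.mem_pointwise_smul_iff_inv_smul_mem, MulAut.smul_def, MulAut.conj_inv_apply]

theorem conj_mem_conj_smul {g h : G} {H : Subgroup G} (hh : h ∈ H) :
    g * h * g⁻¹ ∈ MulAut.conj g • H := by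
  rw [mem_conj_smul_iff]
  convert hh using 1
  group

theorem card_conj_smul (g : G) (H : Subgroup G) :
    Nat.card (MulAut.conj g • H : Subgroup G) = Nat.card H :=
  (Nat.card_congr (Subgroup.equivSMul (MulAut.conj g) H).toEquiv).symm

theorem conj_smul_centralizer (g : G) (H : Subgroup G) :
    MulAut.conj g • Subgroup.centralizer (H : Set G) =
      Subgroup.centralizer ((MulAut.conj g • H : Subgroup G) : Set G) := by
  ext y
  rw [mem_conj_smul_iff, Subgroup.mem_centralizer_iff, Subgroup.mem_centralizer_iff]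
  constructor
  · intro h z hz
    rw [SetLike.mem_coe, mem_conj_smul_iff] at hz
    have := h _ hz
    have h1 : z * y = g * ((g⁻¹ * z * g) * (g⁻¹ * y * g)) * g⁻¹ := by group
    have h2 : y * z = g * ((g⁻¹ * y * g) * (g⁻¹ * z * g)) * g⁻¹ := by group
    rw [h1, h2, this]
  · intro h z hz
    have := h (g * z * g⁻¹) (conj_mem_conj_smul hz)
    have h1 : z * (g⁻¹ * y * g) = g⁻¹ * ((g * z * g⁻¹) * y) * g := by group
    have h2 : (g⁻¹ * y * g) * z = g⁻¹ * (y * (g * z * g⁻¹)) * g := by group
    rw [h1, h2, this]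

/-- for `V` normal, `C_V(gHg⁻¹)` is the conjugate of `C_V(H)` -/
theorem conj_smul_inf_centralizer (g : G) (V H : Subgroup G) [V.Normal] :
    MulAut.conj g • (V ⊓ Subgroup.centralizer (H : Set G)) =
      V ⊓ Subgroup.centralizer ((MulAut.conj g • H : Subgroup G) : Set G) := by
  rw [Subgroup.smul_inf, Subgroup.Normal.conj_smul_eq_self, conj_smul_centralizer]

theorem card_inf_centralizer_conj (g : G) (V H : Subgroup G) [V.Normal] :
    Nat.card (V ⊓ Subgroup.centralizer ((MulAut.conj g • H : Subgroup G) : Set G) : Subgroup G) =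
      Nat.card (V ⊓ Subgroup.centralizer (H : Set G) : Subgroup G) := by
  rw [← conj_smul_inf_centralizer, card_conj_smul]

end Cfsg.Agent.Lib.Helper48.Bau
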