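import Mathlib
import Cfsg.Agent.Lib.Helper48.Bau.Basic
import Cfsg.Agent.Lib.Helper48.Bau.Util
import Cfsg.Agent.Lib.Helper6.BauCoc
import Cfsg.Agent.Lib.Helper50.ChermakDelgado

set_option autoImplicit false
set_option linter.style.haveILetI false

/-!
# Setup for the Baumann lemmas: `V = Ω₁(Z(Q))`, the offender inequality (helper48)
-/

namespace Cfsg.Agent.Lib.Helper48.Bau

open scoped Pointwise
open Cfsg.Agent.Lib.Helper50

variable {G : Type*} [Group G]

theorem abel_iff' (A : Subgroup G) :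
    IsMulCommutative A ↔ ∀ a ∈ A, ∀ b ∈ A, a * b = b * a := by
  constructor
  · intro h a ha b hb
    have := (isMulCommutative_iff.mp h) ⟨a, ha⟩ ⟨b, hb⟩
    exact congrArg Subtype.val this
  · intro h
    exact isMulCommutative_iff.mpr fun a b => Subtype.ext (h a.1 a.2 b.1 b.2)

/-- the join of two commuting abelian subgroups is abelian -/
theorem isMulCommutative_sup {H K : Subgroup G} (hH : IsMulCommutative H) (hK : IsMulCommutative K)
    (hHK : ∀ a ∈ H, ∀ b ∈ K, a * b = b * a) : IsMulCommutative (H ⊔ K : Subgroup G) := by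
  rw [← Subgroup.le_centralizer_iff_isMulCommutative, centralizer_sup]
  apply sup_le
  · apply le_inf
    · exact Subgroup.le_centralizer_iff_isMulCommutative.mpr hH
    · intro a ha
      rw [Subgroup.mem_centralizer_iff]
      intro b hb
      exact (hHK a ha b hb).symm
  · apply le_inf
    · intro b hb
      rw [Subgroup.mem_centralizer_iff]
      intro a ha
      exact hHK a ha b hb
    · exact Subgroup.le_centralizer_iff_isMulCommutative.mpr hK

/-- a subgroup of the centre is normal -/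
theorem normal_of_le_center {H : Subgroup G} (hH : H ≤ Subgroup.center G) : H.Normal := by
  constructor
  intro n hn g
  have : g * n * g⁻¹ = n := by
    have := (Subgroup.mem_center_iff.mp (hH hn)) g
    rw [this]; group
  rw [this]
  exact hn

/-- `Ω₁(Z(Q))` for a normal `p`-subgroup `Q` with `C_G(Q) ≤ Q` -/
def omegaZ (p : ℕ) (Q : Subgroup G) : Subgroup G where
  carrier := {z | z ∈ Subgroup.centralizer (Q : Set G) ∧ z ∈ Q ∧ z ^ p = 1}
  one_mem' := ⟨Subgroup.one_mem _, Subgroup.one_mem _, one_pow _⟩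
  mul_mem' := by
    rintro a b ⟨ha1, ha2, ha3⟩ ⟨hb1, hb2, hb3⟩
    refine ⟨Subgroup.mul_mem _ ha1 hb1, Subgroup.mul_mem _ ha2 hb2, ?_⟩
    have hc : Commute a b := (Subgroup.mem_centralizer_iff.mp ha1 b hb2).symm
    rw [hc.mul_pow, ha3, hb3, one_mul]
  inv_mem' := by
    rintro a ⟨ha1, ha2, ha3⟩
    exact ⟨Subgroup.inv_mem _ ha1, Subgroup.inv_mem _ ha2, by rw [inv_pow, ha3, inv_one]⟩

theorem mem_omegaZ {p : ℕ} {Q : Subgroup G} {z : G} :
    z ∈ omegaZ p Q ↔ z ∈ Subgroup.centralizer (Q : Set G) ∧ z ∈ Q ∧ z ^ p = 1 := Iff.rfl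

instance omegaZ_normal (p : ℕ) (Q : Subgroup G) [hQ : Q.Normal] : (omegaZ p Q).Normal := by
  constructor
  rintro n ⟨h1, h2, h3⟩ g
  refine ⟨(Subgroup.normal_centralizer (H := Q)).conj_mem n h1 g, hQ.conj_mem n h2 g, ?_⟩
  rw [conj_pow, h3]; group

theorem omegaZ_le (p : ℕ) (Q : Subgroup G) : omegaZ p Q ≤ Q := fun _ hz => hz.2.1

theorem le_centralizer_omegaZ (p : ℕ) (Q : Subgroup G) :
    Q ≤ Subgroup.centralizer ((omegaZ p Q : Subgroup G) : Set G) := by
  rw [Subgroup.le_centralizer_iff]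
  exact fun _ hz => hz.1

theorem omegaZ_elementary (p : ℕ) (Q : Subgroup G) : Cfsg.IsElementaryAbelian p (omegaZ p Q) := by
  refine ⟨?_, fun a ha => ha.2.2⟩
  rw [abel_iff']
  intro a ha b hb
  exact (Subgroup.mem_centralizer_iff.mp ha.1 b hb.2.1).symm

/-- in the rank-one setting with `Z(S)` not normal, `C_V(S)` is not central for `V = Ω₁(Z(Q))` -/
theorem Ctx.omegaZ_fixed_not_central [Finite G] {p q : ℕ} [Fact p.Prime] {S : Sylow p G}
    {M Q : Subgroup G} (h : Ctx p q S M Q)
    (hZ : ¬ ((S : Subgroup G) ⊓ Subgroup.centralizer ((S : Subgroup G) : Set G)).Normal) :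
    ¬ (omegaZ p Q ⊓ Subgroup.centralizer ((S : Subgroup G) : Set G) ≤ Subgroup.center G) := by
  intro hcon
  apply hZ
  apply normal_of_le_center
  haveI := h.Q_normal
  -- the abelian normal p-subgroup Z(Q)
  set ZQ : Subgroup G := Subgroup.centralizer (Q : Set G) with hZQ
  haveI hZQn : ZQ.Normal := Subgroup.normal_centralizer
  have hZQle : ZQ ≤ Q := h.cent
  have hZQc : IsMulCommutative ZQ := by
    rw [abel_iff']
    intro a ha b hb
    exact (Subgroup.mem_centralizer_iff.mp ha b (hZQle hb)).symm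
  have hZQp : IsPGroup p ZQ := S.isPGroup'.to_le (hZQle.trans h.Q_le)
  have key := Cfsg.Agent.Lib.Helper6.Bau.central_of_omega_central S ZQ hZQc hZQp (by
    intro z hz hzp hzS
    apply hcon
    refine ⟨⟨hz, hZQle hz, hzp⟩, ?_⟩
    show z ∈ Subgroup.centralizer ((S : Subgroup G) : Set G)
    rw [Subgroup.mem_centralizer_iff]
    intro s hs
    exact hzS s hs)
  intro z hz
  have hzZQ : z ∈ ZQ := by
    rw [hZQ, Subgroup.mem_centralizer_iff]
    intro y hy
    exact Subgroup.mem_centralizer_iff.mp hz.2 y (h.Q_le hy)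
  exact key z hzZQ (fun s hs => Subgroup.mem_centralizer_iff.mp hz.2 s hs)

/-- if `Z(S)` is normal then it is central -/
theorem Ctx.center_sylow_le_center [Finite G] {p q : ℕ} {S : Sylow p G}
    {M Q : Subgroup G} (h : Ctx p q S M Q)
    (hZ : ((S : Subgroup G) ⊓ Subgroup.centralizer ((S : Subgroup G) : Set G)).Normal) :
    (S : Subgroup G) ⊓ Subgroup.centralizer ((S : Subgroup G) : Set G) ≤ Subgroup.center G := by
  set Z : Subgroup G := (S : Subgroup G) ⊓ Subgroup.centralizer ((S : Subgroup G) : Set G) with hZdef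
  haveI := hZ
  haveI hCn : (Subgroup.centralizer (Z : Set G)).Normal := Subgroup.normal_centralizer
  have h1 : (S : Subgroup G) ≤ Subgroup.centralizer (Z : Set G) := by
    rw [Subgroup.le_centralizer_iff]
    exact inf_le_right
  have h2 : Subgroup.normalClosure (((S : Subgroup G)) : Set G) ≤ Subgroup.centralizer (Z : Set G) :=
    Subgroup.normalClosure_le_normal h1
  rw [h.normalClosure_eq_top] at h2
  intro z hz
  rw [Subgroup.mem_center_iff]
  intro g
  exact (Subgroup.mem_centralizer_iff.mp (h2 (Subgroup.mem_top g)) z hz).symm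

/-- the offender inequality for an abelian subgroup of largest order -/
theorem offender_of_absMax [Finite G] {P Q V A : Subgroup G} (hA : A ∈ absMax P)
    (hVQ : V ≤ Q) (hQP : Q ≤ P) (hVc : IsMulCommutative V)
    (hQV : Q ≤ Subgroup.centralizer (V : Set G)) :
    Nat.card V * Nat.card (A ⊓ Q : Subgroup G) ≤
      Nat.card A * Nat.card (V ⊓ Subgroup.centralizer (A : Set G) : Subgroup G) := by
  obtain ⟨hAP, hAc, hAmax⟩ := hA
  have hAQc : IsMulCommutative (A ⊓ Q : Subgroup G) := by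
    rw [abel_iff'] at hAc ⊢
    exact fun a ha b hb => hAc a ha.1 b hb.1
  have hcomm : ∀ a ∈ (A ⊓ Q : Subgroup G), ∀ b ∈ V, a * b = b * a := by
    intro a ha b hb
    exact (Subgroup.mem_centralizer_iff.mp (hQV ha.2) b hb).symm
  have hstar : IsMulCommutative ((A ⊓ Q) ⊔ V : Subgroup G) := isMulCommutative_sup hAQc hVc hcomm
  have hle : ((A ⊓ Q) ⊔ V : Subgroup G) ≤ P := sup_le (inf_le_left.trans hAP) (hVQ.trans hQP)
  have h1 := hAmax _ hle hstar
  have h2 := card_mul_card_le_card_inf_mul_card_sup (A ⊓ Q) V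
  have h3 : ((A ⊓ Q) ⊓ V : Subgroup G) ≤ V ⊓ Subgroup.centralizer (A : Set G) := by
    intro g hg
    refine ⟨hg.2, ?_⟩
    show g ∈ Subgroup.centralizer (A : Set G)
    rw [Subgroup.mem_centralizer_iff]
    intro a ha
    exact (abel_iff' A).mp hAc a ha g hg.1.1
  calc Nat.card V * Nat.card (A ⊓ Q : Subgroup G)
      = Nat.card (A ⊓ Q : Subgroup G) * Nat.card V := Nat.mul_comm _ _
    _ ≤ Nat.card ((A ⊓ Q) ⊓ V : Subgroup G) * Nat.card ((A ⊓ Q) ⊔ V : Subgroup G) := h2
    _ ≤ Nat.card (V ⊓ Subgroup.centralizer (A : Set G) : Subgroup G) * Nat.card A :=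
        Nat.mul_le_mul (Subgroup.card_le_of_le h3) h1
    _ = Nat.card A * Nat.card (V ⊓ Subgroup.centralizer (A : Set G) : Subgroup G) :=
        Nat.mul_comm _ _

end Cfsg.Agent.Lib.Helper48.Bau
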