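import Mathlib
import Cfsg.Agent.Lib.Helper48.Bau.Setup
import Cfsg.Agent.Lib.Helper48.Bau.Interface
import Cfsg.Agent.Lib.Helper48.PMinimal

set_option autoImplicit false
set_option linter.style.haveILetI false

/-!
# Baumann lemmas, case `J(S) ≰ Q`: first part (helper48)
-/

namespace Cfsg.Agent.Lib.Helper48.Bau

open scoped Pointwise commutatorElement
open Cfsg.Agent.Lib.Helper50

variable {G : Type*} [Group G]

/-- data of the case `J(S) ≰ Q` -/
structure BD (p q : ℕ) (S : Sylow p G) (M Q V A₀ : Subgroup G) : Prop where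
  ctx : Ctx p q S M Q
  Vn : V.Normal
  Ve : Cfsg.IsElementaryAbelian p V
  VQ : V ≤ Q
  QV : Q ≤ Subgroup.centralizer (V : Set G)
  t1 : Nat.card V =
    q * Nat.card (V ⊓ Subgroup.centralizer ((S : Subgroup G) : Set G) : Subgroup G)
  t2 : Nat.card (V ⊓ Subgroup.centralizer ((S : Subgroup G) : Set G) : Subgroup G) =
    q * Nat.card (V ⊓ Subgroup.center G : Subgroup G)
  t3 : ∀ a ∈ (S : Subgroup G), a ∉ Q →
    V ⊓ Subgroup.centralizer ({a} : Set G) =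
      V ⊓ Subgroup.centralizer ((S : Subgroup G) : Set G)
  A_mem : A₀ ∈ absMax (S : Subgroup G)
  A_not : ¬ A₀ ≤ Q

variable {p q : ℕ} {S : Sylow p G} {M Q V A₀ : Subgroup G}

theorem BD.A_le (d : BD p q S M Q V A₀) : A₀ ≤ (S : Subgroup G) := d.A_mem.1

theorem BD.A_comm (d : BD p q S M Q V A₀) : ∀ a ∈ A₀, ∀ b ∈ A₀, a * b = b * a :=
  (abel_iff' A₀).mp d.A_mem.2.1

theorem BD.V_comm (d : BD p q S M Q V A₀) : ∀ a ∈ V, ∀ b ∈ V, a * b = b * a :=
  (abel_iff' V).mp d.Ve.1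

theorem BD.QV_comm (d : BD p q S M Q V A₀) : ∀ a ∈ Q, ∀ b ∈ V, a * b = b * a :=
  fun a ha b hb => (Subgroup.mem_centralizer_iff.mp (d.QV ha) b hb).symm

/-- `C_V(A₀) = C_V(S)` -/
theorem BD.fixed_eq (d : BD p q S M Q V A₀) :
    V ⊓ Subgroup.centralizer (A₀ : Set G) =
      V ⊓ Subgroup.centralizer ((S : Subgroup G) : Set G) := by
  apply le_antisymm
  · obtain ⟨a, haA, haQ⟩ : ∃ a ∈ A₀, a ∉ Q := by
      by_contra hcon
      exact d.A_not fun a ha => by_contra fun haQ => hcon ⟨a, ha, haQ⟩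
    rw [← d.t3 a (d.A_le haA) haQ]
    apply inf_le_inf_left
    apply Subgroup.centralizer_le
    intro z hz
    rw [Set.mem_singleton_iff] at hz
    subst hz
    exact haA
  · apply inf_le_inf_left
    exact Subgroup.centralizer_le (SetLike.coe_subset_coe.mpr d.A_le)

theorem BD.card_A_and_sup [Finite G] (d : BD p q S M Q V A₀) :
    Nat.card A₀ = q * Nat.card (A₀ ⊓ Q : Subgroup G) ∧ A₀ ⊔ Q = (S : Subgroup G) := by
  have hoff := offender_of_absMax d.A_mem d.VQ d.ctx.Q_le d.Ve.1 d.QV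
  rw [d.fixed_eq, d.t1] at hoff
  set U : Subgroup G := V ⊓ Subgroup.centralizer ((S : Subgroup G) : Set G)
  have hUpos : 0 < Nat.card U := Nat.card_pos
  have hQpos : 0 < Nat.card Q := Nat.card_pos
  have hAQpos : 0 < Nat.card (A₀ ⊓ Q : Subgroup G) := Nat.card_pos
  have h1 : q * Nat.card (A₀ ⊓ Q : Subgroup G) ≤ Nat.card A₀ := by
    have : Nat.card U * (q * Nat.card (A₀ ⊓ Q : Subgroup G)) ≤ Nat.card U * Nat.card A₀ := by
      calc Nat.card U * (q * Nat.card (A₀ ⊓ Q : Subgroup G))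
          = q * Nat.card U * Nat.card (A₀ ⊓ Q : Subgroup G) := by ring
        _ ≤ Nat.card A₀ * Nat.card U := hoff
        _ = Nat.card U * Nat.card A₀ := Nat.mul_comm _ _
    exact Nat.le_of_mul_le_mul_left this hUpos
  have h2 := card_mul_card_le_card_inf_mul_card_sup A₀ Q
  have hle : A₀ ⊔ Q ≤ (S : Subgroup G) := sup_le d.A_le d.ctx.Q_le
  have h3 : Nat.card (A₀ ⊔ Q : Subgroup G) ≤ q * Nat.card Q := by
    rw [← d.ctx.card]
    exact Subgroup.card_le_of_le hle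
  have h4 : Nat.card A₀ ≤ q * Nat.card (A₀ ⊓ Q : Subgroup G) := by
    have : Nat.card Q * Nat.card A₀ ≤ Nat.card Q * (q * Nat.card (A₀ ⊓ Q : Subgroup G)) := by
      calc Nat.card Q * Nat.card A₀ = Nat.card A₀ * Nat.card Q := Nat.mul_comm _ _
        _ ≤ Nat.card (A₀ ⊓ Q : Subgroup G) * Nat.card (A₀ ⊔ Q : Subgroup G) := h2
        _ ≤ Nat.card (A₀ ⊓ Q : Subgroup G) * (q * Nat.card Q) := Nat.mul_le_mul_left _ h3
        _ = Nat.card Q * (q * Nat.card (A₀ ⊓ Q : Subgroup G)) := by ring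
    exact Nat.le_of_mul_le_mul_left this hQpos
  have hA : Nat.card A₀ = q * Nat.card (A₀ ⊓ Q : Subgroup G) := le_antisymm h4 h1
  refine ⟨hA, ?_⟩
  apply Subgroup.eq_of_le_of_card_ge hle
  rw [d.ctx.card]
  have : Nat.card (A₀ ⊓ Q : Subgroup G) * (q * Nat.card Q) ≤
      Nat.card (A₀ ⊓ Q : Subgroup G) * Nat.card (A₀ ⊔ Q : Subgroup G) := by
    calc Nat.card (A₀ ⊓ Q : Subgroup G) * (q * Nat.card Q)
        = (q * Nat.card (A₀ ⊓ Q : Subgroup G)) * Nat.card Q := by ring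
      _ = Nat.card A₀ * Nat.card Q := by rw [← hA]
      _ ≤ Nat.card (A₀ ⊓ Q : Subgroup G) * Nat.card (A₀ ⊔ Q : Subgroup G) := h2
  exact Nat.le_of_mul_le_mul_left this hAQpos

theorem BD.card_A [Finite G] (d : BD p q S M Q V A₀) :
    Nat.card A₀ = q * Nat.card (A₀ ⊓ Q : Subgroup G) := d.card_A_and_sup.1

theorem BD.sup_eq [Finite G] (d : BD p q S M Q V A₀) : A₀ ⊔ Q = (S : Subgroup G) :=
  d.card_A_and_sup.2

/-- elements of `S` are products `a * y`, `a ∈ A₀`, `y ∈ Q` -/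
theorem BD.exists_mul [Finite G] (d : BD p q S M Q V A₀) {s : G} (hs : s ∈ (S : Subgroup G)) :
    ∃ a ∈ A₀, ∃ y ∈ Q, s = a * y := by
  haveI := d.ctx.Q_normal
  rw [← d.sup_eq] at hs
  exact exists_mul_of_mem_sup_of_le_normalizer' (Subgroup.le_normalizer_of_normal) hs

/-- `A* = (A₀ ∩ Q) V` -/
theorem BD.star_comm (d : BD p q S M Q V A₀) : IsMulCommutative ((A₀ ⊓ Q) ⊔ V : Subgroup G) := by
  apply isMulCommutative_sup
  · rw [abel_iff']
    exact fun a ha b hb => d.A_comm a ha.1 b hb.1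
  · exact d.Ve.1
  · exact fun a ha b hb => d.QV_comm a ha.2 b hb

theorem BD.star_le (d : BD p q S M Q V A₀) : ((A₀ ⊓ Q) ⊔ V : Subgroup G) ≤ Q :=
  sup_le inf_le_right d.VQ

theorem BD.card_star [Finite G] (d : BD p q S M Q V A₀) :
    Nat.card A₀ ≤ Nat.card ((A₀ ⊓ Q) ⊔ V : Subgroup G) := by
  have h2 := card_mul_card_le_card_inf_mul_card_sup (A₀ ⊓ Q) V
  have h3 : ((A₀ ⊓ Q) ⊓ V : Subgroup G) ≤ V ⊓ Subgroup.centralizer (A₀ : Set G) := by
    intro g hg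
    refine ⟨hg.2, ?_⟩
    show g ∈ Subgroup.centralizer (A₀ : Set G)
    rw [Subgroup.mem_centralizer_iff]
    intro a ha
    exact d.A_comm a ha g hg.1.1
  rw [d.fixed_eq] at h3
  set U : Subgroup G := V ⊓ Subgroup.centralizer ((S : Subgroup G) : Set G)
  have hUpos : 0 < Nat.card U := Nat.card_pos
  rw [d.card_A]
  have : Nat.card U * (q * Nat.card (A₀ ⊓ Q : Subgroup G)) ≤
      Nat.card U * Nat.card ((A₀ ⊓ Q) ⊔ V : Subgroup G) := by
    calc Nat.card U * (q * Nat.card (A₀ ⊓ Q : Subgroup G))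
        = Nat.card (A₀ ⊓ Q : Subgroup G) * (q * Nat.card U) := by ring
      _ = Nat.card (A₀ ⊓ Q : Subgroup G) * Nat.card V := by rw [← d.t1]
      _ ≤ Nat.card ((A₀ ⊓ Q) ⊓ V : Subgroup G) * Nat.card ((A₀ ⊓ Q) ⊔ V : Subgroup G) := h2
      _ ≤ Nat.card U * Nat.card ((A₀ ⊓ Q) ⊔ V : Subgroup G) :=
          Nat.mul_le_mul_right _ (Subgroup.card_le_of_le h3)
  exact Nat.le_of_mul_le_mul_left this hUpos

theorem BD.star_mem [Finite G] (d : BD p q S M Q V A₀) :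
    ((A₀ ⊓ Q) ⊔ V : Subgroup G) ∈ absMax (S : Subgroup G) :=
  ⟨d.star_le.trans d.ctx.Q_le, d.star_comm,
    fun B hB hBc => (d.A_mem.2.2 B hB hBc).trans d.card_star⟩

theorem BD.star_mem_Q [Finite G] (d : BD p q S M Q V A₀) :
    ((A₀ ⊓ Q) ⊔ V : Subgroup G) ∈ absMax Q :=
  ⟨d.star_le, d.star_comm,
    fun B hB hBc => (d.A_mem.2.2 B (hB.trans d.ctx.Q_le) hBc).trans d.card_star⟩

theorem BD.absMax_subset [Finite G] (d : BD p q S M Q V A₀) :
    absMax Q ⊆ absMax (S : Subgroup G) :=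
  absMax_subset_of_mem d.ctx.Q_le d.star_mem d.star_le

end Cfsg.Agent.Lib.Helper48.Bau
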