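import Mathlib
import Cfsg.Agent.Lib.Helper48.Bau.CaseB1
import Cfsg.Agent.Lib.Helper48.Coprime

set_option autoImplicit false
set_option linter.style.haveILetI false
set_option linter.unusedVariables false

/-!
# Baumann lemmas, case `J(S) ≰ Q`: the subgroups `D = Z(J(Q))`, `G₀ = ⟨A₀^G⟩`, `E = Z(J(S)) V` (helper48)
-/

namespace Cfsg.Agent.Lib.Helper48.Bau

open scoped Pointwise commutatorElement
open Cfsg.Agent.Lib.Helper50

variable {G : Type*} [Group G]

theorem mem_centerThompsonAOf {P : Subgroup G} {z : G} :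
    z ∈ Cfsg.centerThompsonAOf P ↔ z ∈ Cfsg.thompsonSubgroupAOf P ∧
      z ∈ Subgroup.centralizer (Cfsg.thompsonSubgroupAOf P : Set G) := Iff.rfl

theorem le_thompsonSubgroupAOf' {P A : Subgroup G} (hA : A ∈ absMax P) :
    A ≤ Cfsg.thompsonSubgroupAOf P := by
  rw [thompsonSubgroupAOf_eq_sSup]
  exact le_sSup hA

theorem centerThompsonAOf_comm (P : Subgroup G) :
    ∀ a ∈ Cfsg.centerThompsonAOf P, ∀ b ∈ Cfsg.centerThompsonAOf P, a * b = b * a := by
  intro a ha b hb
  exact (Subgroup.mem_centralizer_iff.mp ha.2 b hb.1).symm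

theorem centerThompsonAOf_normal_of_normal (P : Subgroup G) [P.Normal] :
    (Cfsg.centerThompsonAOf P).Normal := by
  apply Subgroup.Normal.of_conjugate_fixed
  intro g
  rw [conj_smul_centerThompsonAOf, Subgroup.Normal.conj_smul_eq_self]

theorem thompsonSubgroupAOf_normal_of_normal (P : Subgroup G) [P.Normal] :
    (Cfsg.thompsonSubgroupAOf P).Normal := by
  apply Subgroup.Normal.of_conjugate_fixed
  intro g
  rw [conj_smul_thompsonSubgroupAOf, Subgroup.Normal.conj_smul_eq_self]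

theorem le_normalizer_of_conj_mem {H K : Subgroup G}
    (h : ∀ g ∈ K, ∀ x ∈ H, g * x * g⁻¹ ∈ H) : K ≤ Subgroup.normalizer (H : Set G) := by
  intro g hg
  rw [Subgroup.mem_normalizer_iff]
  intro x
  constructor
  · exact h g hg x
  · intro hx
    have := h g⁻¹ (K.inv_mem hg) _ hx
    convert this using 1
    group

/-- `P` normalizes `Z(J(P))` -/
theorem le_normalizer_centerThompsonAOf (P : Subgroup G) :
    P ≤ Subgroup.normalizer (Cfsg.centerThompsonAOf P : Set G) := by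
  apply le_normalizer_of_conj_mem
  intro g hg x hx
  have h1 : MulAut.conj g • Cfsg.centerThompsonAOf P = Cfsg.centerThompsonAOf P := by
    rw [conj_smul_centerThompsonAOf, Subgroup.conj_smul_eq_self_of_mem hg]
  rw [← h1]
  exact conj_mem_conj_smul hx

variable {p q : ℕ} {S : Sylow p G} {M Q V A₀ : Subgroup G}

theorem BD.thompson_Q_le [Finite G] (d : BD p q S M Q V A₀) :
    Cfsg.thompsonSubgroupAOf Q ≤ Cfsg.thompsonSubgroupAOf (S : Subgroup G) := by
  rw [thompsonSubgroupAOf_eq_sSup, thompsonSubgroupAOf_eq_sSup]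
  exact sSup_le_sSup d.absMax_subset

theorem BD.ZJS_le_D [Finite G] (d : BD p q S M Q V A₀) :
    Cfsg.centerThompsonAOf (S : Subgroup G) ≤ Cfsg.centerThompsonAOf Q := by
  intro z hz
  refine ⟨?_, ?_⟩
  · exact le_thompsonSubgroupAOf' d.star_mem_Q (centerThompsonAOf_le_of_mem_absMax d.star_mem hz)
  · exact Subgroup.centralizer_le (SetLike.coe_subset_coe.mpr d.thompson_Q_le) hz.2

theorem BD.V_le_D [Finite G] (d : BD p q S M Q V A₀) : V ≤ Cfsg.centerThompsonAOf Q := by
  intro v hv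
  refine ⟨?_, ?_⟩
  · have hmem : v ∈ ((A₀ ⊓ Q) ⊔ V : Subgroup G) := Subgroup.mem_sup_right hv
    exact le_thompsonSubgroupAOf' d.star_mem_Q hmem
  · show v ∈ Subgroup.centralizer (Cfsg.thompsonSubgroupAOf Q : Set G)
    rw [Subgroup.mem_centralizer_iff]
    intro y hy
    exact d.QV_comm y (thompsonSubgroupAOf_le Q hy) v hv

theorem BD.D_le_star [Finite G] (d : BD p q S M Q V A₀) :
    Cfsg.centerThompsonAOf Q ≤ ((A₀ ⊓ Q) ⊔ V : Subgroup G) :=
  centerThompsonAOf_le_of_mem_absMax d.star_mem_Q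

theorem BD.D_le_Q [Finite G] (d : BD p q S M Q V A₀) : Cfsg.centerThompsonAOf Q ≤ Q :=
  d.D_le_star.trans d.star_le

theorem BD.D_normal (d : BD p q S M Q V A₀) : (Cfsg.centerThompsonAOf Q).Normal := by
  haveI := d.ctx.Q_normal
  exact centerThompsonAOf_normal_of_normal Q

/-- `[D, A₀] ≤ V` elementwise -/
theorem BD.comm_D_A [Finite G] (d : BD p q S M Q V A₀) {x a : G}
    (hx : x ∈ Cfsg.centerThompsonAOf Q) (ha : a ∈ A₀) : ⁅x, a⁆ ∈ V := by
  have hcomm : ∀ a' ∈ (A₀ ⊓ Q : Subgroup G), ∀ b ∈ V, a' * b = b * a' :=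
    fun a' ha' b hb => d.QV_comm a' ha'.2 b hb
  obtain ⟨a', ha', v, hv, rfl⟩ :=
    Cfsg.Agent.Lib.Helper48.exists_mul_of_mem_sup_of_forall_commute _ _ hcomm (d.D_le_star hx)
  have h1 : a' * v = v * a' := hcomm a' ha' v hv
  rw [h1, Cfsg.Agent.Lib.Helper48.commutatorElement_mul_left_of_commute (d.A_comm a' ha'.1 a ha)]
  rw [commutatorElement_def]
  have h2 : v * a * v⁻¹ * a⁻¹ = v * (a * v⁻¹ * a⁻¹) := by group
  rw [h2]
  exact V.mul_mem hv (d.Vn.conj_mem _ (V.inv_mem hv) a)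

/-- elements of `G` centralizing `D` modulo `V` form a normal subgroup -/
theorem BD.comm_D_G0 [Finite G] (d : BD p q S M Q V A₀) {x g : G}
    (hx : x ∈ Cfsg.centerThompsonAOf Q) (hg : g ∈ Subgroup.normalClosure (A₀ : Set G)) :
    ⁅x, g⁆ ∈ V := by
  haveI := d.Vn
  haveI hDn := d.D_normal
  set π := QuotientGroup.mk' V with hπ
  haveI hDmap : ((Cfsg.centerThompsonAOf Q).map π).Normal :=
    hDn.map π (QuotientGroup.mk'_surjective V)
  set N : Subgroup G :=
    (Subgroup.centralizer (((Cfsg.centerThompsonAOf Q).map π : Subgroup (G ⧸ V)) :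
      Set (G ⧸ V))).comap π with hN
  haveI hNn : N.Normal := by
    rw [hN]
    exact Subgroup.Normal.comap Subgroup.normal_centralizer π
  have hAN : A₀ ≤ N := by
    intro a ha
    rw [hN, Subgroup.mem_comap, Subgroup.mem_centralizer_iff]
    rintro _ ⟨y, hy, rfl⟩
    have h1 : π ⁅y, a⁆ = 1 := by
      rw [hπ, QuotientGroup.mk'_apply, QuotientGroup.eq_one_iff]
      exact d.comm_D_A hy ha
    rw [map_commutatorElement, commutatorElement_eq_one_iff_commute] at h1
    exact h1.eq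
  have hGN : Subgroup.normalClosure (A₀ : Set G) ≤ N := Subgroup.normalClosure_le_normal hAN
  have h2 := hGN hg
  rw [hN, Subgroup.mem_comap, Subgroup.mem_centralizer_iff] at h2
  have h3 : π x * π g = π g * π x := h2 (π x) ⟨x, hx, rfl⟩
  have h4 : π ⁅x, g⁆ = 1 := by
    rw [map_commutatorElement, commutatorElement_eq_one_iff_commute]
    exact h3
  rw [hπ, QuotientGroup.mk'_apply, QuotientGroup.eq_one_iff] at h4
  exact h4

theorem BD.G0_not_le [Finite G] [Fact p.Prime] (d : BD p q S M Q V A₀) :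
    ¬ Subgroup.normalClosure (A₀ : Set G) ≤ M := by
  intro hle
  haveI : (Subgroup.normalClosure (A₀ : Set G)).Normal := Subgroup.normalClosure_normal
  have h1 := d.ctx.inf_le_of_normal_of_le hle
  exact d.A_not fun a ha => h1 ⟨d.A_le ha, Subgroup.le_normalClosure ha⟩

theorem BD.G0_sup [Finite G] [Fact p.Prime] (d : BD p q S M Q V A₀) :
    Subgroup.normalClosure (A₀ : Set G) ⊔ (S : Subgroup G) = ⊤ :=
  d.ctx.sup_eq_top_of_not_le d.G0_not_le

/-- `E = Z(J(S)) V` is normal in `G` -/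
theorem BD.E_normal [Finite G] [Fact p.Prime] (d : BD p q S M Q V A₀) :
    (Cfsg.centerThompsonAOf (S : Subgroup G) ⊔ V : Subgroup G).Normal := by
  haveI := d.Vn
  rw [← Subgroup.normalizer_eq_top_iff, eq_top_iff, ← d.G0_sup]
  apply sup_le
  · apply le_normalizer_of_conj_mem
    intro g hg e he
    have hcomm : ∀ z ∈ Cfsg.centerThompsonAOf (S : Subgroup G), ∀ v ∈ V, z * v = v * z :=
      fun z hz v hv => centerThompsonAOf_comm Q z (d.ZJS_le_D hz) v (d.V_le_D hv)
    obtain ⟨z, hz, v, hv, rfl⟩ :=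
      Cfsg.Agent.Lib.Helper48.exists_mul_of_mem_sup_of_forall_commute _ _ hcomm he
    have h1 : g * (z * v) * g⁻¹ = (⁅z, g⁆)⁻¹ * z * (g * v * g⁻¹) := by
      rw [commutatorElement_def]; group
    rw [h1]
    refine Subgroup.mul_mem _ (Subgroup.mul_mem _ ?_ (Subgroup.mem_sup_left hz)) ?_
    · exact Subgroup.mem_sup_right (V.inv_mem (d.comm_D_G0 (d.ZJS_le_D hz) hg))
    · exact Subgroup.mem_sup_right (d.Vn.conj_mem v hv g)
  · refine le_trans ?_
      (Cfsg.Agent.Lib.Helper48.normalizer_inf_le_normalizer_sup _ _)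
    exact le_inf (le_normalizer_centerThompsonAOf _) Subgroup.le_normalizer_of_normal

end Cfsg.Agent.Lib.Helper48.Bau
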