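import Mathlib
import Cfsg.Agent.Lib.Helper48.Bau.CaseB2

set_option autoImplicit false
set_option linter.style.haveILetI false
set_option linter.unusedVariables false

/-!
# Baumann lemmas, case `J(S) ≰ Q`: `B = C_S(Z(J(S)))`, `R = [Z(J(S)), S]`; S2769 and S2770 (helper48)
-/

namespace Cfsg.Agent.Lib.Helper48.Bau

open scoped Pointwise commutatorElement
open Cfsg.Agent.Lib.Helper50

variable {G : Type*} [Group G] {p q : ℕ} {S : Sylow p G} {M Q V A₀ : Subgroup G}

theorem BD.ZJS_le_A [Finite G] (d : BD p q S M Q V A₀) :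
    Cfsg.centerThompsonAOf (S : Subgroup G) ≤ A₀ :=
  centerThompsonAOf_le_of_mem_absMax d.A_mem

theorem BD.A_le_centralizer_ZJS [Finite G] (d : BD p q S M Q V A₀) :
    A₀ ≤ Subgroup.centralizer (Cfsg.centerThompsonAOf (S : Subgroup G) : Set G) := by
  intro a ha
  rw [Subgroup.mem_centralizer_iff]
  intro z hz
  exact d.A_comm z (d.ZJS_le_A hz) a ha

/-- `C_Q(Z(J(S))) = C_Q(E)` -/
theorem BD.Q0_eq (d : BD p q S M Q V A₀) :
    Q ⊓ Subgroup.centralizer (Cfsg.centerThompsonAOf (S : Subgroup G) : Set G) =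
      Q ⊓ Subgroup.centralizer
        ((Cfsg.centerThompsonAOf (S : Subgroup G) ⊔ V : Subgroup G) : Set G) := by
  apply le_antisymm
  · intro y hy
    refine ⟨hy.1, ?_⟩
    rw [centralizer_sup]
    exact ⟨hy.2, d.QV hy.1⟩
  · apply inf_le_inf_left
    exact Subgroup.centralizer_le (SetLike.coe_subset_coe.mpr le_sup_left)

theorem BD.Q0_normal [Finite G] [Fact p.Prime] (d : BD p q S M Q V A₀) :
    (Q ⊓ Subgroup.centralizer
        ((Cfsg.centerThompsonAOf (S : Subgroup G) ⊔ V : Subgroup G) : Set G)).Normal := by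
  haveI := d.ctx.Q_normal
  haveI := d.E_normal
  exact Subgroup.normal_inf_normal _ _

/-- `B = A₀ Q₀` -/
theorem BD.B_eq [Finite G] (d : BD p q S M Q V A₀) :
    (S : Subgroup G) ⊓ Subgroup.centralizer (Cfsg.centerThompsonAOf (S : Subgroup G) : Set G) =
      A₀ ⊔ (Q ⊓ Subgroup.centralizer
        ((Cfsg.centerThompsonAOf (S : Subgroup G) ⊔ V : Subgroup G) : Set G)) := by
  rw [← d.Q0_eq]
  apply le_antisymm
  · intro b hb
    obtain ⟨a, ha, y, hy, rfl⟩ := d.exists_mul hb.1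
    refine Subgroup.mul_mem _ (Subgroup.mem_sup_left ha) (Subgroup.mem_sup_right ⟨hy, ?_⟩)
    have h1 : y = a⁻¹ * (a * y) := by group
    rw [h1]
    exact Subgroup.mul_mem _ (Subgroup.inv_mem _ (d.A_le_centralizer_ZJS ha)) hb.2
  · apply sup_le
    · exact le_inf d.A_le d.A_le_centralizer_ZJS
    · exact inf_le_inf_right _ d.ctx.Q_le

/-- an element centralizing `S` and `G₀` is central -/
theorem BD.mem_center_of [Finite G] [Fact p.Prime] (d : BD p q S M Q V A₀) {x : G}
    (h1 : x ∈ Subgroup.centralizer ((Subgroup.normalClosure (A₀ : Set G) : Subgroup G) : Set G))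
    (h2 : x ∈ Subgroup.centralizer ((S : Subgroup G) : Set G)) : x ∈ Subgroup.center G := by
  have h3 : x ∈ Subgroup.centralizer
      ((Subgroup.normalClosure (A₀ : Set G) ⊔ (S : Subgroup G) : Subgroup G) : Set G) := by
    rw [centralizer_sup]
    exact ⟨h1, h2⟩
  rw [d.G0_sup, Subgroup.coe_top, Subgroup.centralizer_univ] at h3
  exact h3

/-- `R = [Z(J(S)), S] = [E, Q]` -/
theorem BD.R_eq [Finite G] [Fact p.Prime] (d : BD p q S M Q V A₀) :
    ⁅Cfsg.centerThompsonAOf (S : Subgroup G), (S : Subgroup G)⁆ =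
      ⁅(Cfsg.centerThompsonAOf (S : Subgroup G) ⊔ V : Subgroup G), Q⁆ := by
  haveI := d.ctx.Q_normal
  haveI := d.E_normal
  haveI hRn : (⁅(Cfsg.centerThompsonAOf (S : Subgroup G) ⊔ V : Subgroup G), Q⁆).Normal :=
    Subgroup.commutator_normal _ _
  apply le_antisymm
  · rw [Subgroup.commutator_le]
    intro z hz s hs
    obtain ⟨a, ha, y, hy, rfl⟩ := d.exists_mul hs
    have hza : z * a = a * z := d.A_comm z (d.ZJS_le_A hz) a ha
    have h1 : ⁅z, a * y⁆ = a * ⁅z, y⁆ * a⁻¹ := by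
      rw [commutatorElement_def, commutatorElement_def]
      calc z * (a * y) * z⁻¹ * (a * y)⁻¹ = (z * a) * y * z⁻¹ * y⁻¹ * a⁻¹ := by group
        _ = (a * z) * y * z⁻¹ * y⁻¹ * a⁻¹ := by rw [hza]
        _ = a * (z * y * z⁻¹ * y⁻¹) * a⁻¹ := by group
    rw [h1]
    exact hRn.conj_mem _ (Subgroup.commutator_mem_commutator (Subgroup.mem_sup_left hz) hy) a
  · rw [Subgroup.commutator_le]
    intro e he y hy
    have hcomm : ∀ z ∈ Cfsg.centerThompsonAOf (S : Subgroup G), ∀ v ∈ V, z * v = v * z :=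
      fun z hz v hv => centerThompsonAOf_comm Q z (d.ZJS_le_D hz) v (d.V_le_D hv)
    obtain ⟨z, hz, v, hv, rfl⟩ :=
      Cfsg.Agent.Lib.Helper48.exists_mul_of_mem_sup_of_forall_commute _ _ hcomm he
    rw [Cfsg.Agent.Lib.Helper48.commutatorElement_mul_left_of_commute
      (d.QV_comm y hy v hv).symm]
    exact Subgroup.commutator_mem_commutator hz (d.ctx.Q_le hy)

theorem BD.R_normal [Finite G] [Fact p.Prime] (d : BD p q S M Q V A₀) :
    (⁅Cfsg.centerThompsonAOf (S : Subgroup G), (S : Subgroup G)⁆).Normal := by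
  haveI := d.ctx.Q_normal
  haveI := d.E_normal
  rw [d.R_eq]
  exact Subgroup.commutator_normal _ _

theorem BD.R_le_ZJS (d : BD p q S M Q V A₀) :
    ⁅Cfsg.centerThompsonAOf (S : Subgroup G), (S : Subgroup G)⁆ ≤
      Cfsg.centerThompsonAOf (S : Subgroup G) :=
  Cfsg.Agent.Lib.Helper48.commutator_le_of_le_normalizer (le_normalizer_centerThompsonAOf _)

theorem BD.G0_le_centralizer_R [Finite G] [Fact p.Prime] (d : BD p q S M Q V A₀) :
    Subgroup.normalClosure (A₀ : Set G) ≤ Subgroup.centralizer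
      ((⁅Cfsg.centerThompsonAOf (S : Subgroup G), (S : Subgroup G)⁆ : Subgroup G) : Set G) := by
  haveI := d.R_normal
  apply Subgroup.normalClosure_le_normal
  intro a ha
  rw [SetLike.mem_coe, Subgroup.mem_centralizer_iff]
  intro r hr
  exact d.A_comm r (d.ZJS_le_A (d.R_le_ZJS hr)) a ha

/-- S2769 in the case `J(S) ≰ Q` -/
theorem BD.s2769 [Finite G] [Fact p.Prime] (d : BD p q S M Q V A₀) :
    (⁅Cfsg.centerThompsonAOf (S : Subgroup G), (S : Subgroup G)⁆ ⊓
      ((S : Subgroup G) ⊓ Subgroup.centralizer ((S : Subgroup G) : Set G))).Normal := by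
  haveI := d.R_normal
  have h1 : ⁅Cfsg.centerThompsonAOf (S : Subgroup G), (S : Subgroup G)⁆ ⊓
      ((S : Subgroup G) ⊓ Subgroup.centralizer ((S : Subgroup G) : Set G)) =
      ⁅Cfsg.centerThompsonAOf (S : Subgroup G), (S : Subgroup G)⁆ ⊓ Subgroup.center G := by
    apply le_antisymm
    · intro r hr
      refine ⟨hr.1, d.mem_center_of ?_ hr.2.2⟩
      rw [Subgroup.mem_centralizer_iff]
      intro g hg
      exact (Subgroup.mem_centralizer_iff.mp (d.G0_le_centralizer_R hg) r hr.1).symm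
    · intro r hr
      refine ⟨hr.1, ?_, ?_⟩
      · exact d.A_le (d.ZJS_le_A (d.R_le_ZJS hr.1))
      · show r ∈ Subgroup.centralizer ((S : Subgroup G) : Set G)
        rw [Subgroup.mem_centralizer_iff]
        intro s hs
        exact (Subgroup.mem_center_iff.mp hr.2 s)
  rw [h1]
  exact Subgroup.normal_inf_normal _ _

/-- `p`-th powers of elements of `Z(S)` are central, in the case `J(S) ≰ Q` -/
theorem BD.pow_mem_center [Finite G] [Fact p.Prime] (d : BD p q S M Q V A₀) {z : G}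
    (hz : z ∈ (S : Subgroup G) ⊓ Subgroup.centralizer ((S : Subgroup G) : Set G)) :
    z ^ p ∈ Subgroup.center G := by
  have hzD : z ∈ Cfsg.centerThompsonAOf Q := d.ZJS_le_D (center_le_centerThompsonAOf _ hz)
  apply d.mem_center_of
  · rw [Subgroup.mem_centralizer_iff]
    intro g hg
    have hv : ⁅z, g⁆ ∈ V := d.comm_D_G0 hzD hg
    have hvz : Commute (⁅z, g⁆)⁻¹ z :=
      (centerThompsonAOf_comm Q _ (d.V_le_D (V.inv_mem hv)) z hzD)
    have h1 : g * z * g⁻¹ = (⁅z, g⁆)⁻¹ * z := by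
      rw [commutatorElement_def]; group
    have h2 : g * z ^ p * g⁻¹ = z ^ p := by
      rw [← conj_pow, h1, hvz.mul_pow, inv_pow, d.Ve.2 _ hv, inv_one, one_mul]
    calc g * z ^ p = (g * z ^ p * g⁻¹) * g := by group
      _ = z ^ p * g := by rw [h2]
  · exact Subgroup.pow_mem _ hz.2 p

/-- S2770 in the case `J(S) ≰ Q` -/
theorem BD.s2770 [Finite G] [Fact p.Prime] (d : BD p q S M Q V A₀) :
    (Cfsg.powerClosure p 1
      ((S : Subgroup G) ⊓ Subgroup.centralizer ((S : Subgroup G) : Set G))).Normal := by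
  apply normal_of_le_center
  unfold Cfsg.powerClosure
  rw [Subgroup.closure_le]
  rintro y ⟨x, hx, rfl⟩
  rw [pow_one]
  exact d.pow_mem_center hx

end Cfsg.Agent.Lib.Helper48.Bau
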