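import Mathlib
import Cfsg.Agent.Lib.Helper48.Bau.CaseB3

set_option autoImplicit false
set_option linter.style.haveILetI false
set_option linter.unusedVariables false

/-!
# Baumann lemmas, case `J(S) ≰ Q`: `B = C_S(Z(J(S)))` is Sylow in its normal closure (helper48)
-/

namespace Cfsg.Agent.Lib.Helper48.Bau

open scoped Pointwise commutatorElement
open Cfsg.Agent.Lib.Helper50

variable {G : Type*} [Group G]

theorem card_mul_relIndex' {H K : Subgroup G} (h : H ≤ K) :
    Nat.card H * H.relIndex K = Nat.card K := by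
  have := Subgroup.relIndex_mul_relIndex (⊥ : Subgroup G) H K bot_le h
  rwa [Subgroup.relIndex_bot_left, Subgroup.relIndex_bot_left] at this

theorem card_sup_mul_card_inf_of_normal (H K : Subgroup G) [K.Normal] :
    Nat.card (H ⊔ K : Subgroup G) * Nat.card (H ⊓ K : Subgroup G) = Nat.card H * Nat.card K := by
  have h1 : K.relIndex (H ⊔ K) = K.relIndex H := Subgroup.relIndex_sup_right H K
  have h2 : (H ⊓ K).relIndex H = K.relIndex H := by
    rw [inf_comm]; exact Subgroup.inf_relIndex_right K H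
  have h3 := card_mul_relIndex' (show K ≤ H ⊔ K from le_sup_right)
  have h4 := card_mul_relIndex' (show H ⊓ K ≤ H from inf_le_left)
  rw [h1] at h3
  rw [h2] at h4
  calc Nat.card (H ⊔ K : Subgroup G) * Nat.card (H ⊓ K : Subgroup G)
      = (Nat.card K * K.relIndex H) * Nat.card (H ⊓ K : Subgroup G) := by rw [h3]
    _ = (Nat.card (H ⊓ K : Subgroup G) * K.relIndex H) * Nat.card K := by ring
    _ = Nat.card H * Nat.card K := by rw [h4]

variable {p q : ℕ} {S : Sylow p G} {M Q V A₀ : Subgroup G}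

theorem BD.E_le_D [Finite G] (d : BD p q S M Q V A₀) :
    (Cfsg.centerThompsonAOf (S : Subgroup G) ⊔ V : Subgroup G) ≤ Cfsg.centerThompsonAOf Q :=
  sup_le d.ZJS_le_D d.V_le_D

/-- `[Q, G₀] ≤ Q₀ = C_Q(E)` -/
theorem BD.comm_Q_G0_le [Finite G] [Fact p.Prime] (d : BD p q S M Q V A₀) :
    ⁅Q, Subgroup.normalClosure (A₀ : Set G)⁆ ≤ Q ⊓ Subgroup.centralizer
        ((Cfsg.centerThompsonAOf (S : Subgroup G) ⊔ V : Subgroup G) : Set G) := by
  haveI := d.ctx.Q_normal
  apply le_inf
  · exact Subgroup.commutator_le_left _ _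
  · rw [← Subgroup.commutator_eq_bot_iff_le_centralizer]
    apply Subgroup.commutator_commutator_eq_bot_of_rotate
    · -- [[G₀, E], Q] = 1
      have h1 : ⁅Subgroup.normalClosure (A₀ : Set G),
          (Cfsg.centerThompsonAOf (S : Subgroup G) ⊔ V : Subgroup G)⁆ ≤ V := by
        rw [Subgroup.commutator_comm, Subgroup.commutator_le]
        intro e he g hg
        exact d.comm_D_G0 (d.E_le_D he) hg
      rw [eq_bot_iff]
      refine (Subgroup.commutator_mono h1 le_rfl).trans ?_
      rw [← eq_bot_iff, Subgroup.commutator_eq_bot_iff_le_centralizer, Subgroup.le_centralizer_iff]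
      exact d.QV
    · -- [[E, Q], G₀] = 1
      rw [← d.R_eq, Subgroup.commutator_eq_bot_iff_le_centralizer, Subgroup.le_centralizer_iff]
      exact d.G0_le_centralizer_R

/-- the key counting: `H ∩ Q` centralizes `E`, for `H = ⟨A₀, xA₀x⁻¹⟩`, `x ∉ M` -/
theorem BD.H_inf_Q_le [Finite G] [Fact p.Prime] (d : BD p q S M Q V A₀) {x : G} (hx : x ∉ M) :
    (A₀ ⊔ MulAut.conj x • A₀) ⊓ Q ≤ Subgroup.centralizer
        ((Cfsg.centerThompsonAOf (S : Subgroup G) ⊔ V : Subgroup G) : Set G) := by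
  haveI := d.Vn
  haveI hEn := d.E_normal
  set E : Subgroup G := Cfsg.centerThompsonAOf (S : Subgroup G) ⊔ V with hE
  set A₁ : Subgroup G := MulAut.conj x • A₀ with hA₁
  set E₀ : Subgroup G := E ⊓ Subgroup.centralizer (A₀ : Set G) with hE₀
  set E₁ : Subgroup G := E ⊓ Subgroup.centralizer (A₁ : Set G) with hE₁
  set CE : Subgroup G := E ⊓ Subgroup.centralizer ((A₀ ⊔ A₁ : Subgroup G) : Set G) with hCE
  set U : Subgroup G := V ⊓ Subgroup.centralizer ((S : Subgroup G) : Set G) with hU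
  set C : Subgroup G := V ⊓ Subgroup.center G with hC
  have hqpos : 0 < q := lt_trans Nat.zero_lt_one d.ctx.one_lt
  have hUpos : 0 < Nat.card U := Nat.card_pos
  have hCpos : 0 < Nat.card C := Nat.card_pos
  have hE₀pos : 0 < Nat.card E₀ := Nat.card_pos
  have hVE : V ≤ E := le_sup_right
  -- (α) |E| ≤ q |E₀|
  have hα : Nat.card E ≤ q * Nat.card E₀ := by
    have h1 : E ≤ E₀ ⊔ V := by
      rw [hE]
      apply sup_le _ le_sup_right
      refine le_trans ?_ le_sup_left
      apply le_inf le_sup_left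
      rw [Subgroup.le_centralizer_iff]
      exact d.A_le_centralizer_ZJS
    have h2 := card_sup_mul_card_inf_of_normal E₀ V
    have h3 : E₀ ⊓ V = U := by
      rw [hE₀, hU, ← d.fixed_eq]
      ext g
      constructor
      · intro hg; exact ⟨hg.2, hg.1.2⟩
      · intro hg; exact ⟨⟨hVE hg.1, hg.2⟩, hg.1⟩
    rw [h3, d.t1] at h2
    have h4 : Nat.card E * Nat.card U ≤ (q * Nat.card E₀) * Nat.card U := by
      calc Nat.card E * Nat.card U ≤ Nat.card (E₀ ⊔ V : Subgroup G) * Nat.card U :=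
            Nat.mul_le_mul_right _ (Subgroup.card_le_of_le h1)
        _ = Nat.card E₀ * (q * Nat.card U) := h2
        _ = (q * Nat.card E₀) * Nat.card U := by ring
    exact Nat.le_of_mul_le_mul_right h4 hUpos
  -- |E₁| = |E₀|
  have hcard₁ : Nat.card E₁ = Nat.card E₀ := card_inf_centralizer_conj x E A₀
  -- (β) |E₀|² ≤ |CE| |E|
  have hβ : Nat.card E₀ * Nat.card E₀ ≤ Nat.card CE * Nat.card E := by
    have h1 := card_mul_card_le_card_inf_mul_card_sup E₀ E₁
    rw [hcard₁] at h1
    have h2 : E₀ ⊓ E₁ = CE := by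
      rw [hE₀, hE₁, hCE, centralizer_sup]
      ext g
      constructor
      · intro hg; exact ⟨hg.1.1, hg.1.2, hg.2.2⟩
      · intro hg; exact ⟨⟨hg.1, hg.2.1⟩, ⟨hg.1, hg.2.2⟩⟩
    rw [h2] at h1
    exact h1.trans (Nat.mul_le_mul_left _ (Subgroup.card_le_of_le (sup_le inf_le_left inf_le_left)))
  have hE₀le : Nat.card E₀ ≤ q * Nat.card CE := by
    have : Nat.card E₀ * Nat.card E₀ ≤ Nat.card E₀ * (q * Nat.card CE) := by
      calc Nat.card E₀ * Nat.card E₀ ≤ Nat.card CE * Nat.card E := hβ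
        _ ≤ Nat.card CE * (q * Nat.card E₀) := Nat.mul_le_mul_left _ hα
        _ = Nat.card E₀ * (q * Nat.card CE) := by ring
    exact Nat.le_of_mul_le_mul_left this hE₀pos
  have hEle : Nat.card E ≤ q * q * Nat.card CE := by
    calc Nat.card E ≤ q * Nat.card E₀ := hα
      _ ≤ q * (q * Nat.card CE) := Nat.mul_le_mul_left _ hE₀le
      _ = q * q * Nat.card CE := by ring
  -- (γ) V ⊓ CE = C
  have hγ : CE ⊓ V = C := by
    apply le_antisymm
    · intro g hg
      refine ⟨hg.2, ?_⟩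
      have hg0 : g ∈ V ⊓ Subgroup.centralizer (A₀ : Set G) :=
        ⟨hg.2, Subgroup.centralizer_le (SetLike.coe_subset_coe.mpr le_sup_left) hg.1.2⟩
      have hg1 : g ∈ V ⊓ Subgroup.centralizer (A₁ : Set G) :=
        ⟨hg.2, Subgroup.centralizer_le (SetLike.coe_subset_coe.mpr le_sup_right) hg.1.2⟩
      rw [d.fixed_eq] at hg0
      rw [hA₁, ← conj_smul_inf_centralizer, d.fixed_eq, conj_smul_inf_centralizer] at hg1
      exact d.ctx.centralizer_inf_le_center hx ⟨hg0.2, hg1.2⟩
    · intro g hg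
      refine ⟨⟨hVE hg.1, ?_⟩, hg.1⟩
      show g ∈ Subgroup.centralizer ((A₀ ⊔ A₁ : Subgroup G) : Set G)
      rw [Subgroup.mem_centralizer_iff]
      intro y _
      exact (Subgroup.mem_center_iff.mp hg.2 y)
  -- (δ) V ⊔ CE = E
  have hδ : CE ⊔ V = E := by
    apply Subgroup.eq_of_le_of_card_ge (sup_le inf_le_left hVE)
    have h2 := card_sup_mul_card_inf_of_normal CE V
    rw [hγ, d.t1, d.t2] at h2
    have h3 : Nat.card (CE ⊔ V : Subgroup G) = q * q * Nat.card CE := by
      have : Nat.card (CE ⊔ V : Subgroup G) * Nat.card C = (q * q * Nat.card CE) * Nat.card C := by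
        rw [h2]; ring
      exact Nat.eq_of_mul_eq_mul_right hCpos this
    rw [h3]
    exact hEle
  -- conclusion
  intro y hy
  rw [← hδ, centralizer_sup]
  refine ⟨?_, d.QV hy.2⟩
  show y ∈ Subgroup.centralizer (CE : Set G)
  rw [Subgroup.mem_centralizer_iff]
  intro e he
  exact (Subgroup.mem_centralizer_iff.mp he.2 y hy.1).symm

end Cfsg.Agent.Lib.Helper48.Bau
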