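import Mathlib
import Cfsg.Agent.Lib.Helper48.Bau.CaseB4

set_option autoImplicit false
set_option linter.style.haveILetI false
set_option linter.unusedVariables false

/-!
# Baumann lemmas, case `J(S) ≰ Q`: `S ∩ ⟨B^G⟩ = B` (helper48)
-/

namespace Cfsg.Agent.Lib.Helper48.Bau

open scoped Pointwise commutatorElement
open Cfsg.Agent.Lib.Helper50

variable {G : Type*} [Group G] {p q : ℕ} {S : Sylow p G} {M Q V A₀ : Subgroup G}

/-- `G₀ ∩ Q ≤ Q₀` -/
theorem BD.G0_inf_Q_le [Finite G] [Fact p.Prime] (d : BD p q S M Q V A₀) :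
    Subgroup.normalClosure (A₀ : Set G) ⊓ Q ≤ Q ⊓ Subgroup.centralizer
        ((Cfsg.centerThompsonAOf (S : Subgroup G) ⊔ V : Subgroup G) : Set G) := by
  haveI := d.ctx.Q_normal
  haveI hQ₀n := d.Q0_normal
  obtain ⟨x, hx⟩ := d.ctx.exists_not_mem
  set Q₀ : Subgroup G := Q ⊓ Subgroup.centralizer
        ((Cfsg.centerThompsonAOf (S : Subgroup G) ⊔ V : Subgroup G) : Set G) with hQ₀
  set G₀ : Subgroup G := Subgroup.normalClosure (A₀ : Set G) with hG₀
  haveI hG₀n : G₀.Normal := Subgroup.normalClosure_normal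
  set A₁ : Subgroup G := MulAut.conj x • A₀ with hA₁
  set H : Subgroup G := A₀ ⊔ A₁ with hH
  have hA₀G : A₀ ≤ G₀ := Subgroup.le_normalClosure
  have hA₁G : A₁ ≤ G₀ := by
    intro y hy
    rw [hA₁, mem_conj_smul_iff] at hy
    have := hG₀n.conj_mem _ (hA₀G hy) x
    convert this using 1
    group
  have hHG : H ≤ G₀ := sup_le hA₀G hA₁G
  -- H ⊔ Q = ⊤
  have hHQ : H ⊔ Q = ⊤ := by
    rw [eq_top_iff, ← d.ctx.sup_conj_eq_top hx]
    apply sup_le
    · rw [← d.sup_eq]
      exact sup_le (le_sup_left.trans le_sup_left) le_sup_right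
    · rw [← d.sup_eq, Subgroup.smul_sup, Subgroup.Normal.conj_smul_eq_self x Q]
      exact sup_le (le_sup_right.trans le_sup_left) le_sup_right
  -- Y = H Q₀ is normal
  set Y : Subgroup G := H ⊔ Q₀ with hY
  have hYn : Y.Normal := by
    rw [← Subgroup.normalizer_eq_top_iff, eq_top_iff, ← hHQ]
    apply sup_le
    · exact le_sup_left.trans Subgroup.le_normalizer
    · apply le_normalizer_of_conj_mem
      intro y hy w hw
      obtain ⟨h, hh, c, hc, rfl⟩ :=
        Cfsg.Agent.Lib.Helper48.exists_mul_of_mem_sup_of_le_normalizer'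
          (Subgroup.le_normalizer_of_normal) hw
      have h1 : y * (h * c) * y⁻¹ = ⁅y, h⁆ * h * (y * c * y⁻¹) := by
        rw [commutatorElement_def]; group
      rw [h1]
      refine Subgroup.mul_mem _ (Subgroup.mul_mem _ ?_ (Subgroup.mem_sup_left hh)) ?_
      · exact Subgroup.mem_sup_right
          (d.comm_Q_G0_le (Subgroup.commutator_mem_commutator hy (hHG hh)))
      · exact Subgroup.mem_sup_right (hQ₀n.conj_mem c hc y)
  have hG₀Y : G₀ ≤ Y :=
    Subgroup.normalClosure_le_normal (SetLike.coe_subset_coe.mpr (le_sup_left.trans le_sup_left))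
  intro g hg
  obtain ⟨h, hh, c, hc, rfl⟩ :=
    Cfsg.Agent.Lib.Helper48.exists_mul_of_mem_sup_of_le_normalizer'
      (Subgroup.le_normalizer_of_normal) (hG₀Y hg.1)
  have hhQ : h ∈ Q := by
    have h1 : h = (h * c) * c⁻¹ := by group
    rw [h1]
    exact Q.mul_mem hg.2 (Q.inv_mem hc.1)
  have hhQ₀ : h ∈ Q₀ := ⟨hhQ, d.H_inf_Q_le hx ⟨hh, hhQ⟩⟩
  exact Q₀.mul_mem hhQ₀ hc

/-- `S ∩ ⟨B^G⟩ = B` for `B = C_S(Z(J(S)))` -/
theorem BD.S_inf_normalClosure_B [Finite G] [Fact p.Prime] (d : BD p q S M Q V A₀) :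
    (S : Subgroup G) ⊓ Subgroup.normalClosure
      ((((S : Subgroup G) ⊓ Subgroup.centralizer
        (Cfsg.centerThompsonAOf (S : Subgroup G) : Set G) : Subgroup G)) : Set G) =
      (S : Subgroup G) ⊓ Subgroup.centralizer
        (Cfsg.centerThompsonAOf (S : Subgroup G) : Set G) := by
  haveI := d.ctx.Q_normal
  haveI hQ₀n := d.Q0_normal
  set Q₀ : Subgroup G := Q ⊓ Subgroup.centralizer
        ((Cfsg.centerThompsonAOf (S : Subgroup G) ⊔ V : Subgroup G) : Set G) with hQ₀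
  set G₀ : Subgroup G := Subgroup.normalClosure (A₀ : Set G) with hG₀
  haveI hG₀n : G₀.Normal := Subgroup.normalClosure_normal
  have hB := d.B_eq
  set B : Subgroup G := (S : Subgroup G) ⊓ Subgroup.centralizer
        (Cfsg.centerThompsonAOf (S : Subgroup G) : Set G) with hBdef
  apply le_antisymm
  · have hL : Subgroup.normalClosure (B : Set G) ≤ G₀ ⊔ Q₀ := by
      haveI : (G₀ ⊔ Q₀).Normal := Subgroup.sup_normal G₀ Q₀
      apply Subgroup.normalClosure_le_normal
      rw [SetLike.coe_subset_coe, hB]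
      exact sup_le_sup_right Subgroup.le_normalClosure _
    intro s hs
    obtain ⟨g, hg, c, hc, rfl⟩ :=
      Cfsg.Agent.Lib.Helper48.exists_mul_of_mem_sup_of_le_normalizer'
        (Subgroup.le_normalizer_of_normal) (hL hs.2)
    have hgS : g ∈ (S : Subgroup G) := by
      have h1 : g = (g * c) * c⁻¹ := by group
      rw [h1]
      exact Subgroup.mul_mem _ hs.1 (Subgroup.inv_mem _ (d.ctx.Q_le hc.1))
    obtain ⟨a, ha, y, hy, rfl⟩ := d.exists_mul hgS
    have hyG : y ∈ G₀ := by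
      have h1 : y = a⁻¹ * (a * y) := by group
      rw [h1]
      exact G₀.mul_mem (G₀.inv_mem (Subgroup.le_normalClosure ha)) hg
    have hyQ₀ : y ∈ Q₀ := d.G0_inf_Q_le ⟨hyG, hy⟩
    rw [hB]
    exact Subgroup.mul_mem _ (Subgroup.mul_mem _ (Subgroup.mem_sup_left ha)
      (Subgroup.mem_sup_right hyQ₀)) (Subgroup.mem_sup_right hc)
  · exact le_inf inf_le_left Subgroup.le_normalClosure

end Cfsg.Agent.Lib.Helper48.Bau
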