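import Mathlib
import Cfsg.Agent.Lib.Helper48.Bau.Basic
import Cfsg.Agent.Lib.Helper48.Bau.Util
import Cfsg.Agent.Lib.Helper48.Bau.Interface
import Cfsg.Agent.Lib.Helper50.ChermakDelgado

set_option autoImplicit false

/-!
# The module theorem in the rank-one setting (helper48)

If some `A ≤ S`, `A ≰ Q`, is an offender on the normal elementary abelian `V ≤ Z(Q)` with
`C_V(S) ≰ Z(G)`, then `|V / C_V(S)| = q = |C_V(S) / C_V(G)|` and `C_V(a) = C_V(S)` for `a ∈ S \ Q`.
-/

namespace Cfsg.Agent.Lib.Helper48.Bau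

open scoped Pointwise
open Cfsg.Agent.Lib.Helper50

variable {G : Type*} [Group G]

theorem thmT [Finite G] {p q : ℕ} [Fact p.Prime] {S : Sylow p G} {M Q : Subgroup G}
    (h : Ctx p q S M Q) (V : Subgroup G) [V.Normal] (hV : Cfsg.IsElementaryAbelian p V)
    (hQV : Q ≤ Subgroup.centralizer (V : Set G))
    (hU : ¬ (V ⊓ Subgroup.centralizer ((S : Subgroup G) : Set G) ≤ Subgroup.center G))
    (A : Subgroup G) (hAS : A ≤ (S : Subgroup G)) (hAQ : ¬ A ≤ Q)
    (hoff : Nat.card V * Nat.card (A ⊓ Q : Subgroup G) ≤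
      Nat.card A * Nat.card (V ⊓ Subgroup.centralizer (A : Set G) : Subgroup G)) :
    Nat.card V = q * Nat.card (V ⊓ Subgroup.centralizer ((S : Subgroup G) : Set G) : Subgroup G) ∧
    Nat.card (V ⊓ Subgroup.centralizer ((S : Subgroup G) : Set G) : Subgroup G) =
      q * Nat.card (V ⊓ Subgroup.center G : Subgroup G) ∧
    ∀ a ∈ (S : Subgroup G), a ∉ Q →
      V ⊓ Subgroup.centralizer ({a} : Set G) =
        V ⊓ Subgroup.centralizer ((S : Subgroup G) : Set G) := by
  have hbest := sylow_best h V hQV A hAS hAQ hoff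
  have hquad := sylow_quadratic h V hV hQV hbest
  have hge := card_fixed_ge h V hV hQV hquad hU
  set U : Subgroup G := V ⊓ Subgroup.centralizer ((S : Subgroup G) : Set G) with hUdef
  set C : Subgroup G := V ⊓ Subgroup.center G with hCdef
  obtain ⟨x, hx⟩ := h.exists_not_mem
  set U' : Subgroup G :=
    V ⊓ Subgroup.centralizer ((MulAut.conj x • (S : Subgroup G) : Subgroup G) : Set G) with hU'def
  have hcardU' : Nat.card U' = Nat.card U := card_inf_centralizer_conj x V _
  have hUpos : 0 < Nat.card U := Nat.card_pos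
  have hCpos : 0 < Nat.card C := Nat.card_pos
  have hqpos : 0 < q := lt_trans Nat.zero_lt_one h.one_lt
  -- |V| ≤ q |U|
  have hVle : Nat.card V ≤ q * Nat.card U := by
    have h1 := hbest Q h.Q_le
    have h2 : V ⊓ Subgroup.centralizer (Q : Set G) = V := by
      apply inf_eq_left.mpr
      rw [Subgroup.le_centralizer_iff]
      exact hQV
    rw [h2, h.card] at h1
    have hQpos : 0 < Nat.card Q := Nat.card_pos
    have h3 : Nat.card Q * Nat.card V ≤ Nat.card Q * (q * Nat.card U) := by
      calc Nat.card Q * Nat.card V ≤ q * Nat.card Q * Nat.card U := h1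
        _ = Nat.card Q * (q * Nat.card U) := by ring
    exact Nat.le_of_mul_le_mul_left h3 hQpos
  -- W ⊓ U' ≤ C for W = C_V(a)
  have hkey : ∀ W : Subgroup G, W ≤ V → Nat.card W * Nat.card U ≤
      Nat.card (W ⊓ U' : Subgroup G) * Nat.card V := by
    intro W hWV
    have h1 := card_mul_card_le_card_inf_mul_card_sup W U'
    rw [hcardU'] at h1
    have h2 : Nat.card (W ⊔ U' : Subgroup G) ≤ Nat.card V :=
      Subgroup.card_le_of_le (sup_le hWV inf_le_left)
    exact h1.trans (Nat.mul_le_mul_left _ h2)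
  have hUU' : U ⊓ U' ≤ C := by
    intro g hg
    refine ⟨hg.1.1, h.centralizer_inf_le_center hx ⟨hg.1.2, hg.2.2⟩⟩
  -- |U|² ≤ |C| |V|
  have h1 : Nat.card U * Nat.card U ≤ Nat.card C * Nat.card V :=
    (hkey U inf_le_left).trans (Nat.mul_le_mul_right _ (Subgroup.card_le_of_le hUU'))
  have hUeq : Nat.card U = q * Nat.card C := by
    apply le_antisymm _ hge
    have h2 : Nat.card U * Nat.card U ≤ Nat.card U * (q * Nat.card C) := by
      calc Nat.card U * Nat.card U ≤ Nat.card C * Nat.card V := h1
        _ ≤ Nat.card C * (q * Nat.card U) := Nat.mul_le_mul_left _ hVle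
        _ = Nat.card U * (q * Nat.card C) := by ring
    exact Nat.le_of_mul_le_mul_left h2 hUpos
  have hVeq : Nat.card V = q * Nat.card U := by
    apply le_antisymm hVle
    have h2 : Nat.card C * (q * Nat.card U) ≤ Nat.card C * Nat.card V := by
      calc Nat.card C * (q * Nat.card U) = Nat.card U * (q * Nat.card C) := by ring
        _ = Nat.card U * Nat.card U := by rw [← hUeq]
        _ ≤ Nat.card C * Nat.card V := h1
    exact Nat.le_of_mul_le_mul_left h2 hCpos
  refine ⟨hVeq, hUeq, ?_⟩
  intro a haS haQ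
  set W : Subgroup G := V ⊓ Subgroup.centralizer ({a} : Set G) with hWdef
  have hUW : U ≤ W := by
    intro g hg
    refine ⟨hg.1, ?_⟩
    show g ∈ Subgroup.centralizer ({a} : Set G)
    rw [Subgroup.mem_centralizer_iff]
    intro z hz
    rw [Set.mem_singleton_iff] at hz
    subst hz
    exact (Subgroup.mem_centralizer_iff.mp hg.2) _ haS
  have hWU' : W ⊓ U' ≤ C := by
    intro g hg
    refine ⟨hg.1.1, ?_⟩
    have hgen := h.gen x hx a haS haQ
    have h1 : g ∈ Subgroup.centralizer
        ((Subgroup.closure (insert a ((MulAut.conj x • (S : Subgroup G) : Subgroup G) : Set G)) :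
          Subgroup G) : Set G) := by
      rw [Subgroup.centralizer_closure, Subgroup.mem_centralizer_iff]
      intro y hy
      rcases hy with rfl | hy
      · exact (Subgroup.mem_centralizer_iff.mp hg.1.2) _ rfl
      · exact (Subgroup.mem_centralizer_iff.mp hg.2.2) _ hy
    rw [hgen, Subgroup.coe_top, Subgroup.centralizer_univ] at h1
    exact h1
  have h2 : Nat.card W * Nat.card U ≤ Nat.card U * Nat.card U := by
    calc Nat.card W * Nat.card U ≤ Nat.card (W ⊓ U' : Subgroup G) * Nat.card V :=
          hkey W inf_le_left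
      _ ≤ Nat.card C * Nat.card V := Nat.mul_le_mul_right _ (Subgroup.card_le_of_le hWU')
      _ = Nat.card C * (q * Nat.card U) := by rw [hVeq]
      _ = (q * Nat.card C) * Nat.card U := by ring
      _ = Nat.card U * Nat.card U := by rw [← hUeq]
  have h3 : Nat.card W ≤ Nat.card U := Nat.le_of_mul_le_mul_right h2 hUpos
  exact (Subgroup.eq_of_le_of_card_ge hUW h3).symm

end Cfsg.Agent.Lib.Helper48.Bau
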