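import Mathlib
import Cfsg.Agent.Lib.Helper48.Bau.CaseB5
import Cfsg.Agent.Lib.Helper48.Bau.ThmT

set_option autoImplicit false
set_option linter.style.haveILetI false
set_option linter.unusedVariables false

/-!
# Baumann lemmas in the rank-one setting: the three results in terms of `Ctx` (helper48)
-/

namespace Cfsg.Agent.Lib.Helper48.Bau

open scoped Pointwise commutatorElement
open Cfsg.Agent.Lib.Helper50

variable {G : Type*} [Group G] {p q : ℕ} {S : Sylow p G} {M Q : Subgroup G}

/-- the case `J(S) ≤ Q`: `C_S(Z(J(S)))` is normal, unless `Z(S)` is central -/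
theorem caseA_normal [Finite G] [Fact p.Prime] (h : Ctx p q S M Q)
    (hall : ∀ A ∈ absMax (S : Subgroup G), A ≤ Q)
    (hZ : ¬ ((S : Subgroup G) ⊓ Subgroup.centralizer ((S : Subgroup G) : Set G) ≤
      Subgroup.center G)) :
    ((S : Subgroup G) ⊓ Subgroup.centralizer
      (Cfsg.centerThompsonAOf (S : Subgroup G) : Set G)).Normal := by
  haveI := h.Q_normal
  have h1 : absMax Q = absMax (S : Subgroup G) := absMax_eq_of_forall_le h.Q_le hall
  have hJ : Cfsg.thompsonSubgroupAOf (S : Subgroup G) = Cfsg.thompsonSubgroupAOf Q := by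
    rw [thompsonSubgroupAOf_eq_sSup, thompsonSubgroupAOf_eq_sSup, h1]
  have hZJ : Cfsg.centerThompsonAOf (S : Subgroup G) = Cfsg.centerThompsonAOf Q := by
    unfold Cfsg.centerThompsonAOf
    rw [hJ]
  haveI hn : (Cfsg.centerThompsonAOf Q).Normal := centerThompsonAOf_normal_of_normal Q
  set N : Subgroup G := Subgroup.centralizer (Cfsg.centerThompsonAOf Q : Set G) with hN
  haveI hNn : N.Normal := Subgroup.normal_centralizer
  rw [hZJ]
  by_cases hNM : N ≤ M
  · have h2 := h.inf_le_of_normal_of_le hNM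
    have h3 : (S : Subgroup G) ⊓ N = Q ⊓ N :=
      le_antisymm (le_inf h2 inf_le_right) (inf_le_inf_right _ h.Q_le)
    rw [h3]
    exact Subgroup.normal_inf_normal _ _
  · exfalso
    apply hZ
    have h2 := h.sup_eq_top_of_not_le hNM
    intro z hz
    have hzZJ : z ∈ Cfsg.centerThompsonAOf Q := by
      rw [← hZJ]
      exact center_le_centerThompsonAOf _ hz
    have h3 : z ∈ Subgroup.centralizer ((N ⊔ (S : Subgroup G) : Subgroup G) : Set G) := by
      rw [centralizer_sup]
      refine ⟨?_, hz.2⟩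
      have : Cfsg.centerThompsonAOf Q ≤ Subgroup.centralizer (N : Set G) := by
        rw [Subgroup.le_centralizer_iff]
      exact this hzZJ
    rw [h2, Subgroup.coe_top, Subgroup.centralizer_univ] at h3
    exact h3

/-- the data of the case `J(S) ≰ Q` -/
theorem exists_BD [Finite G] [Fact p.Prime] (h : Ctx p q S M Q)
    (hZ : ¬ ((S : Subgroup G) ⊓ Subgroup.centralizer ((S : Subgroup G) : Set G)).Normal)
    {A₀ : Subgroup G} (hA : A₀ ∈ absMax (S : Subgroup G)) (hAQ : ¬ A₀ ≤ Q) :
    BD p q S M Q (omegaZ p Q) A₀ := by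
  haveI := h.Q_normal
  have hVe := omegaZ_elementary p Q
  have hVQ := omegaZ_le p Q
  have hQV := le_centralizer_omegaZ p Q
  have hU := h.omegaZ_fixed_not_central hZ
  have hoff := offender_of_absMax hA hVQ h.Q_le hVe.1 hQV
  obtain ⟨t1, t2, t3⟩ := thmT h (omegaZ p Q) hVe hQV hU A₀ hA.1 hAQ hoff
  exact ⟨h, inferInstance, hVe, hVQ, hQV, t1, t2, t3, hA, hAQ⟩

/-- S2768 in the rank-one setting -/
theorem ctx_s2768 [Finite G] [Fact p.Prime] (h : Ctx p q S M Q)
    (hZ : ¬ ((S : Subgroup G) ⊓ Subgroup.centralizer ((S : Subgroup G) : Set G)).Normal) :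
    (S : Subgroup G) ⊓ Subgroup.normalClosure
      ((((S : Subgroup G) ⊓ Subgroup.centralizer
        (Cfsg.centerThompsonAOf (S : Subgroup G) : Set G) : Subgroup G)) : Set G) =
      (S : Subgroup G) ⊓ Subgroup.centralizer
        (Cfsg.centerThompsonAOf (S : Subgroup G) : Set G) := by
  by_cases hall : ∀ A ∈ absMax (S : Subgroup G), A ≤ Q
  · have hZ' : ¬ ((S : Subgroup G) ⊓ Subgroup.centralizer ((S : Subgroup G) : Set G) ≤
        Subgroup.center G) := fun hle => hZ (normal_of_le_center hle)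
    haveI hB := caseA_normal h hall hZ'
    rw [Subgroup.normalClosure_eq_self]
    exact inf_eq_right.mpr inf_le_left
  · obtain ⟨A₀, hA, hAQ⟩ : ∃ A₀ ∈ absMax (S : Subgroup G), ¬ A₀ ≤ Q := by
      by_contra hcon
      exact hall fun A hA => by_contra fun hAQ => hcon ⟨A, hA, hAQ⟩
    exact (exists_BD h hZ hA hAQ).S_inf_normalClosure_B

/-- S2769 in the rank-one setting -/
theorem ctx_s2769 [Finite G] [Fact p.Prime] (h : Ctx p q S M Q) :
    (⁅Cfsg.centerThompsonAOf (S : Subgroup G), (S : Subgroup G)⁆ ⊓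
      ((S : Subgroup G) ⊓ Subgroup.centralizer ((S : Subgroup G) : Set G))).Normal ∨
    ((S : Subgroup G) ⊓ Subgroup.centralizer
      (Cfsg.centerThompsonAOf (S : Subgroup G) : Set G)).Normal := by
  by_cases hZ : ((S : Subgroup G) ⊓ Subgroup.centralizer ((S : Subgroup G) : Set G)).Normal
  · left
    exact normal_of_le_center (inf_le_right.trans (h.center_sylow_le_center hZ))
  · by_cases hall : ∀ A ∈ absMax (S : Subgroup G), A ≤ Q
    · right
      exact caseA_normal h hall fun hle => hZ (normal_of_le_center hle)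
    · left
      obtain ⟨A₀, hA, hAQ⟩ : ∃ A₀ ∈ absMax (S : Subgroup G), ¬ A₀ ≤ Q := by
        by_contra hcon
        exact hall fun A hA => by_contra fun hAQ => hcon ⟨A, hA, hAQ⟩
      exact (exists_BD h hZ hA hAQ).s2769

/-- S2770 in the rank-one setting -/
theorem ctx_s2770 [Finite G] [Fact p.Prime] (h : Ctx p q S M Q) :
    (Cfsg.powerClosure p 1
      ((S : Subgroup G) ⊓ Subgroup.centralizer ((S : Subgroup G) : Set G))).Normal ∨
    ((S : Subgroup G) ⊓ Subgroup.centralizer
      (Cfsg.centerThompsonAOf (S : Subgroup G) : Set G)).Normal := by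
  by_cases hZ : ((S : Subgroup G) ⊓ Subgroup.centralizer ((S : Subgroup G) : Set G)).Normal
  · left
    apply normal_of_le_center
    unfold Cfsg.powerClosure
    rw [Subgroup.closure_le]
    rintro y ⟨x, hx, rfl⟩
    exact Subgroup.pow_mem _ (h.center_sylow_le_center hZ hx) _
  · by_cases hall : ∀ A ∈ absMax (S : Subgroup G), A ≤ Q
    · right
      exact caseA_normal h hall fun hle => hZ (normal_of_le_center hle)
    · left
      obtain ⟨A₀, hA, hAQ⟩ : ∃ A₀ ∈ absMax (S : Subgroup G), ¬ A₀ ≤ Q := by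
        by_contra hcon
        exact hall fun A hA => by_contra fun hAQ => hcon ⟨A, hA, hAQ⟩
      exact (exists_BD h hZ hA hAQ).s2770

/-- Hypothesis E gives the rank-one setting -/
theorem ctx_of_hypE {G : Type*} [Group G] [Finite G] {p : ℕ} [Fact p.Prime] (S : Sylow p G)
    (hE₁ : Subgroup.centralizer (Cfsg.pCore p G : Set G) ≤ Cfsg.pCore p G)
    (hE₂ : ∃! M : Subgroup G, IsCoatom M ∧ (S : Subgroup G) ≤ M)
    (K : Subgroup G) [K.Normal] (F : Type) [Field F] [Fintype F] (n : ℕ) (hn : 1 ≤ n)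
    (hF : Fintype.card F = p ^ n)
    (hE₃ : Nonempty (G ⧸ K ≃* Matrix.ProjectiveSpecialLinearGroup (Fin 2) F)) :
    ∃ M : Subgroup G, Ctx p (p ^ n) S M (Cfsg.pCore p G) := by
  obtain ⟨e⟩ := hE₃
  have hq : 1 < p ^ n := Nat.one_lt_pow (by omega) (Fact.out : p.Prime).one_lt
  exact ctx_of_quotient S hE₁ hE₂ K (p ^ n) hq (fun P => psl2_sylow_facts F hn hF e P)

end Cfsg.Agent.Lib.Helper48.Bau
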